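import Cfsg.Agent.H240.GenTwF.Abs
import Cfsg.Agent.H818.Gen.Defs

/-!
# S2187: general tools (helper240)

* `le_Gam_of_gen` : an `E`-invariant subgroup `L` with `Gen p L` lies in `Gam p E`;
* `Gam_eq_top_of_noSP` : `|E| = p ^ 2`, `E` contains a nontrivial inner automorphism and all elements of order `p` of every
  `p`-subgroup of `Inn(K) E` above it, `Inn(K) E` has no strongly `p`-embedded subgroup ⟹ `Gam p E = ⊤`;
* `exists_inner`, `card_le_sq` : elementary abelian subgroups of `Aut K` for `Out K` cyclic.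
-/

set_option autoImplicit false
set_option linter.unusedSectionVars false

namespace Cfsg.Agent.H240.GenTwF

open Cfsg Subgroup Cfsg.Agent.H818.StrP Cfsg.Agent.H818.Gen

section Gen

variable {G : Type*} [Group G] [Finite G] {p : ℕ} [hp : Fact p.Prime]

/-- restriction of automorphisms to an invariant subgroup -/
def resE (E : Subgroup (MulAut G)) (L : Subgroup G) (h : ∀ φ ∈ E, ∀ x ∈ L, φ x ∈ L) : E →* MulAut L where
  toFun φ :=
    { toFun := fun x => ⟨(φ : MulAut G) x, h φ φ.2 x x.2⟩
      invFun := fun x => ⟨((φ : MulAut G)⁻¹ : MulAut G) (x : G), h _ (E.inv_mem φ.2) x x.2⟩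
      left_inv := fun x => Subtype.ext (MulAut.inv_apply_self G (φ : MulAut G) (x : G))
      right_inv := fun x => Subtype.ext (MulAut.apply_inv_self G (φ : MulAut G) (x : G))
      map_mul' := fun x y => Subtype.ext (map_mul (φ : MulAut G) (x : G) (y : G)) }
  map_one' := by ext x; rfl
  map_mul' := fun φ ψ => by ext x; rfl

theorem resE_apply {E : Subgroup (MulAut G)} {L : Subgroup G} (h : ∀ φ ∈ E, ∀ x ∈ L, φ x ∈ L) (φ : E) (x : L) :
    ((resE E L h φ x : L) : G) = (φ : MulAut G) x := rfl

theorem elab_range {E : Subgroup (MulAut G)} (hE : IsElementaryAbelian p E) {H : Type*} [Group H] (r : E →* H) :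
    IsElementaryAbelian p r.range := by
  refine ⟨⟨⟨?_⟩⟩, ?_⟩
  · rintro ⟨_, a, rfl⟩ ⟨_, b, rfl⟩
    refine Subtype.ext ?_
    show r a * r b = r b * r a
    rw [← map_mul, ← map_mul, hE.1.1.1 a b]
  · rintro _ ⟨a, rfl⟩
    rw [← map_pow, show a ^ p = 1 from Subtype.ext (hE.2 a a.2), map_one]

/-- **an `E`-invariant subgroup `L` with `Gam p E_L = ⊤` for the image `E_L` of `E` in `Aut L` (if `|E_L| ≥ p ^ 2`) lies
in `Gam p E`** -/
theorem le_Gam_of_range {E : Subgroup (MulAut G)} (hE : IsElementaryAbelian p E) (hc : p ^ 2 ≤ Nat.card E)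
    {L : Subgroup G} (hEL : ∀ φ ∈ E, ∀ x ∈ L, φ x ∈ L)
    (hL : p ^ 2 ≤ Nat.card (resE E L hEL).range → Gam p (resE E L hEL).range = ⊤) : L ≤ Gam p E := by
  classical
  have h1p := hp.out.one_lt
  have hpc : p ≤ Nat.card E := le_trans (by nlinarith) hc
  set r := resE E L hEL with hr
  have hcE : Finite E := inferInstance
  -- the image
  have hrE : IsElementaryAbelian p r.range := elab_range hE r
  by_cases hbig : p ^ 2 ≤ Nat.card r.range
  · have h1 := hL hbig
    intro x hx
    have h2 : Gam p r.range ≤ (Gam p E).comap L.subtype := by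
      refine Gam_le fun F hF hi => ?_
      intro y hy
      rw [mem_comap]
      refine CF_le_Gam' (F := (F.comap r).map E.subtype) (map_subtype_le _) ?_ ?_
      · have h3 : ((F.comap r).map E.subtype).subgroupOf E = F.comap r := by
          rw [← Subgroup.comap_subtype]
          exact Subgroup.comap_map_eq_self_of_injective E.subtype_injective _
        rw [relIndex, h3, Subgroup.index_comap, hi]
      · rintro _ ⟨φ, hφ, rfl⟩
        exact congrArg Subtype.val (hy (r φ) hφ)
    have h3 : (⟨x, hx⟩ : L) ∈ Gam p r.range := by rw [h1]; exact mem_top _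
    exact h2 h3
  · push Not at hbig
    -- the kernel
    have hk : r.ker.index = Nat.card r.range := index_ker r
    have hcL : ∀ F : Subgroup E, F ≤ r.ker → ∀ x ∈ L, x ∈ CF (F.map E.subtype) := by
      rintro F hF x hx _ ⟨φ, hφ, rfl⟩
      have h2 := hF hφ
      rw [MonoidHom.mem_ker] at h2
      have h3 := congrArg (fun f : MulAut L => ((f ⟨x, hx⟩ : L) : G)) h2
      exact h3
    obtain ⟨n, hn⟩ := (elab_isPGroup hrE).exists_card_eq
    rw [hn] at hbig hk
    have hn2 : n < 2 := (Nat.pow_lt_pow_iff_right h1p).1 hbig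
    interval_cases n
    · rw [pow_zero, index_eq_one] at hk
      intro x hx
      refine CF_le_Gam_of_card hE hpc ?_
      have h2 := hcL ⊤ (by rw [hk]) x hx
      intro φ hφ
      exact h2 φ ⟨⟨φ, hφ⟩, mem_top _, rfl⟩
    · intro x hx
      refine CF_le_Gam' (F := r.ker.map E.subtype) (map_subtype_le _) ?_ (hcL _ le_rfl x hx)
      have h3 : (r.ker.map E.subtype).subgroupOf E = r.ker := by
        rw [← Subgroup.comap_subtype]
        exact Subgroup.comap_map_eq_self_of_injective E.subtype_injective _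
      rw [relIndex, h3, hk, pow_one]

/-- **an `E`-invariant subgroup `L` with `Gen p L` lies in `Gam p E`** -/
theorem le_Gam_of_gen {E : Subgroup (MulAut G)} (hE : IsElementaryAbelian p E) (hc : p ^ 2 ≤ Nat.card E)
    {L : Subgroup G} (hEL : ∀ φ ∈ E, ∀ x ∈ L, φ x ∈ L) (hL : Gen p L) : L ≤ Gam p E :=
  le_Gam_of_range hE hc hEL fun h => hL _ (elab_range hE _) h

end Gen

section Cyc

variable {K : Type*} [Group K] [Finite K] {p : ℕ} [hp : Fact p.Prime]

/-- **`Gam p E = ⊤` from the absence of strongly `p`-embedded subgroups.** -/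
theorem Gam_eq_top_of_noSP [IsSimpleGroup K] (hna : ¬ IsMulCommutative K) {E : Subgroup (MulAut K)}
    (hE : IsElementaryAbelian p E) (hc : Nat.card E = p ^ 2) {x : K} (hx1 : x ≠ 1) (hx : MulAut.conj x ∈ E)
    (hP : ∀ Q : Subgroup (MulAut K), Q ≤ (MulAut.conj : K →* MulAut K).range ⊔ E → IsPGroup p Q → E ≤ Q →
      ∀ y ∈ Q, y ^ p = 1 → y ∈ E)
    (hno : NoSP p ↥((MulAut.conj : K →* MulAut K).range ⊔ E)) : Gam p E = ⊤ := by
  refine eq_top_of_noSP hna hE hx1 hx hP hno ?_ ?_
  · intro y hy hy1 k hk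
    exact mem_Gam_of_fixed hE hc hy hy1 hk
  · intro n hn k hk
    refine conj_Gam (fun e he => (mem_normalizer_iff.1 hn e).1 he) (fun e he => ?_) hk
    have h1 := (mem_normalizer_iff.1 (inv_mem hn) e).1 he
    rwa [inv_inv] at h1

/-- the group of inner automorphisms -/
abbrev Inn (K : Type*) [Group K] : Subgroup (MulAut K) := (MulAut.conj : K →* MulAut K).range

theorem conj_conj (f : MulAut K) (k : K) : f * MulAut.conj k * f⁻¹ = MulAut.conj (f k) := by
  ext z
  simp [MulAut.mul_apply, MulAut.conj_apply, map_mul]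

instance innNormal : (Inn K).Normal := ⟨by
  rintro _ ⟨k, rfl⟩ f
  exact ⟨f k, (conj_conj f k).symm⟩⟩

/-- a cyclic group of exponent `p` has order at most `p` -/
theorem card_le_of_cyclic {P : Type*} [Group P] [Finite P] [IsCyclic P] (h : ∀ x : P, x ^ p = 1) : Nat.card P ≤ p := by
  have h1 : Monoid.exponent P ∣ p := Monoid.exponent_dvd_of_forall_pow_eq_one h
  rw [IsCyclic.exponent_eq_card] at h1
  exact Nat.le_of_dvd hp.out.pos h1

theorem not_cyclic_of_sq {X : Type*} [Group X] [Finite X] {E : Subgroup X} (hE : IsElementaryAbelian p E)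
    (hc : p ^ 2 ≤ Nat.card E) : ¬ IsCyclic E := by
  intro h
  have h1 := card_le_of_cyclic (p := p) (P := E) fun x => Subtype.ext (hE.2 x x.2)
  have := hp.out.one_lt
  nlinarith

/-- `Out K` cyclic from a cyclic supplement of `Inn K` -/
theorem cyclic_out {R : Type*} [Group R] [IsCyclic R] (Φ : R →* MulAut K)
    (haut : ∀ ψ : MulAut K, ∃ (w : K) (σ : R), ψ = MulAut.conj w * Φ σ) : IsCyclic (MulAut K ⧸ Inn K) := by
  let k : R →* MulAut K ⧸ Inn K := (QuotientGroup.mk' _).comp Φ
  have hk : Function.Surjective k := by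
    intro q
    obtain ⟨ψ, rfl⟩ := QuotientGroup.mk'_surjective _ q
    obtain ⟨w, σ, rfl⟩ := haut ψ
    refine ⟨σ, ?_⟩
    have h1 : QuotientGroup.mk' (Inn K) (MulAut.conj w) = 1 := (QuotientGroup.eq_one_iff _).2 ⟨w, rfl⟩
    rw [map_mul, h1, one_mul]
    rfl
  exact isCyclic_of_surjective k hk

/-- **a noncyclic elementary abelian group of automorphisms contains inner automorphisms** -/
theorem exists_inner (hQ : IsCyclic (MulAut K ⧸ Inn K)) {E : Subgroup (MulAut K)} (hE : IsElementaryAbelian p E)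
    (hc : p ^ 2 ≤ Nat.card E) : ∃ x : K, x ≠ 1 ∧ MulAut.conj x ∈ E := by
  let f : E →* MulAut K ⧸ Inn K := (QuotientGroup.mk' _).comp E.subtype
  by_contra hcon
  push Not at hcon
  apply not_cyclic_of_sq hE hc
  refine isCyclic_of_injective f ?_
  rw [injective_iff_map_eq_one]
  intro a ha
  obtain ⟨y, hy⟩ := (QuotientGroup.eq_one_iff (a : MulAut K)).1 ha
  have h1 : y = 1 := by
    by_contra h2
    exact hcon y h2 (by rw [hy]; exact a.2)
  exact Subtype.ext (by rw [← hy, h1, map_one]; rfl)

/-- the part outside `Inn K` -/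
theorem relIndex_le (hQ : IsCyclic (MulAut K ⧸ Inn K)) {E : Subgroup (MulAut K)} (hE : IsElementaryAbelian p E) :
    (Inn K).relIndex E ≤ p := by
  let f : E →* MulAut K ⧸ Inn K := (QuotientGroup.mk' _).comp E.subtype
  have h1 : f.ker = (Inn K).subgroupOf E := by
    ext a
    rw [MonoidHom.mem_ker, mem_subgroupOf]
    exact QuotientGroup.eq_one_iff (a : MulAut K)
  rw [relIndex, ← h1, index_ker]
  have h2 : IsCyclic f.range := inferInstance
  refine card_le_of_cyclic fun x => ?_
  obtain ⟨_, a, rfl⟩ := x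
  refine Subtype.ext ?_
  show f a ^ p = 1
  rw [← map_pow, show a ^ p = 1 from Subtype.ext (hE.2 a a.2), map_one]

theorem conj_injective (hz : center K = ⊥) : Function.Injective (MulAut.conj : K →* MulAut K) := by
  rw [← MonoidHom.ker_eq_bot_iff, eq_bot_iff, ← hz]
  intro x hx
  rw [MonoidHom.mem_ker] at hx
  rw [mem_center_iff]
  intro y
  have h := DFunLike.congr_fun hx y
  rw [MulAut.conj_apply, MulAut.one_apply] at h
  exact (mul_inv_eq_iff_eq_mul.1 h).symm

theorem center_bot [IsSimpleGroup K] (hna : ¬ IsMulCommutative K) : center K = ⊥ := by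
  rcases (inferInstance : (center K).Normal).eq_bot_or_eq_top with h | h
  · exact h
  · exact absurd (isMulCommutative_iff.2 fun a b => ((mem_center_iff.1 (by rw [h]; trivial : a ∈ center _)) b).symm) hna

/-- `p`-subgroups of `Inn K` are cyclic if the Sylow `p`-subgroups of `K` are -/
theorem cyclic_inn (hz : center K = ⊥) (hcyc : ∀ P : Sylow p K, IsCyclic ↥(P : Subgroup K)) {E : Subgroup (MulAut K)}
    (hE : IsPGroup p E) (hI : E ≤ Inn K) : IsCyclic E := by
  have hinj := conj_injective hz
  have h1 : (E.comap (MulAut.conj : K →* MulAut K)).map (MulAut.conj : K →* MulAut K) = E :=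
    map_comap_eq_self hI
  have h2 : IsPGroup p (E.comap (MulAut.conj : K →* MulAut K)) := hE.comap_of_injective _ hinj
  obtain ⟨P, hP⟩ := h2.exists_le_sylow
  have h3 := hcyc P
  have h4 : IsCyclic (E.comap (MulAut.conj : K →* MulAut K)) :=
    isCyclic_of_injective (Subgroup.inclusion hP) (Subgroup.inclusion_injective hP)
  have h5 : IsCyclic ((E.comap (MulAut.conj : K →* MulAut K)).map (MulAut.conj : K →* MulAut K)) :=
    isCyclic_of_surjective ((MulAut.conj : K →* MulAut K).subgroupMap _)
      ((MulAut.conj : K →* MulAut K).subgroupMap_surjective _)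
  rwa [h1] at h5

end Cyc

end Cfsg.Agent.H240.GenTwF
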