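import Cfsg.Agent.H818.StrP.Gen
import Cfsg.Agent.S0127

/-!
# S2187, rows `Sz`, `Ree`, `²F₄` : abstract part (helper240)

* `normalizer_le` : `E` contains all elements of order `p` of every `p`-subgroup above it, `C(y) ≤ H` for `y ∈ E#`,
  `N(E) ≤ H` ⟹ `N(Q) ≤ H` for every nontrivial `p`-subgroup `Q` of `H`;
* `eq_top_of_noSP` : the generation theorem for `|E| = p ^ 2`.
-/

set_option autoImplicit false

namespace Cfsg.Agent.H240.GenTwF

open Cfsg Subgroup Cfsg.Agent.H818.StrP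

section
variable {X : Type*} [Group X] [Finite X] {p : ℕ} [hp : Fact p.Prime]

/-- a nontrivial `p`-group contains an element of order `p` -/
theorem exists_ordp {Q : Subgroup X} (hQ : IsPGroup p Q) (hne : Q ≠ ⊥) : ∃ y ∈ Q, y ≠ 1 ∧ y ^ p = 1 := by
  have h1 : Nontrivial Q := (Subgroup.nontrivial_iff_ne_bot Q).2 hne
  obtain ⟨n, hn, hc⟩ := (hQ.nontrivial_iff_card).1 h1
  obtain ⟨⟨y, hy⟩, hyo⟩ := exists_prime_orderOf_dvd_card' (G := Q) p (by rw [hc]; exact dvd_pow_self p hn.ne')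
  rw [Subgroup.orderOf_mk] at hyo
  refine ⟨y, hy, ?_, by rw [← hyo]; exact pow_orderOf_eq_one y⟩
  rintro rfl
  rw [orderOf_one] at hyo
  exact hp.out.one_lt.ne hyo

theorem conj_le_of_card {E F : Subgroup X} (h : E ≤ F) (hc : Nat.card F ≤ Nat.card E) : E = F :=
  Subgroup.eq_of_le_of_card_ge h hc

theorem normalizer_le {E H : Subgroup X} (hEp : IsPGroup p E) (hEab : ∀ a ∈ E, ∀ b ∈ E, a * b = b * a)
    (hE1 : ∀ a ∈ E, a ^ p = 1)
    (hP : ∀ Q : Subgroup X, IsPGroup p Q → E ≤ Q → ∀ y ∈ Q, y ^ p = 1 → y ∈ E)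
    (hEH : E ≤ H) (hC : ∀ y ∈ E, y ≠ 1 → centralizer ({y} : Set X) ≤ H) (hN : normalizer (E : Set X) ≤ H)
    {Q : Subgroup X} (hQ : IsPGroup p Q) (hQH : Q ≤ H) (hne : Q ≠ ⊥) : normalizer (Q : Set X) ≤ H := by
  -- a Sylow subgroup of `H` above `E`
  have hEH' : IsPGroup p (E.subgroupOf H) := hEp.comap_subtype
  obtain ⟨R, hR⟩ := hEH'.exists_le_sylow
  have hQH' : IsPGroup p (Q.subgroupOf H) := hQ.comap_subtype
  obtain ⟨R', hR'⟩ := hQH'.exists_le_sylow
  obtain ⟨h, hh⟩ := MulAction.exists_smul_eq H R' R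
  -- elements of order `p` of `h Q h⁻¹` lie in `E`
  have hQE : ∀ y ∈ Q, y ^ p = 1 → (h : X) * y * (h : X)⁻¹ ∈ E := by
    intro y hy hyp
    refine hP ((R : Subgroup H).map H.subtype) (R.2.map _) ?_ _ ?_ ?_
    · intro e he
      exact ⟨⟨e, hEH he⟩, hR (mem_subgroupOf.2 he), rfl⟩
    · have h1 : (⟨y, hQH hy⟩ : H) ∈ (R' : Subgroup H) := hR' (mem_subgroupOf.2 hy)
      have h2 : h * ⟨y, hQH hy⟩ * h⁻¹ ∈ (R : Subgroup H) := by
        rw [← hh, Sylow.coe_subgroup_smul]
        exact ⟨_, h1, rfl⟩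
      exact ⟨_, h2, rfl⟩
    · rw [conj_pow, hyp, mul_one, mul_inv_cancel]
  intro g hg
  obtain ⟨y, hy, hy1, hyp⟩ := exists_ordp hQ hne
  set a : X := (h : X) * y * (h : X)⁻¹ with ha
  set b : X := (h : X) * (g * y * g⁻¹) * (h : X)⁻¹ with hb
  have haE : a ∈ E := hQE y hy hyp
  have hgy : g * y * g⁻¹ ∈ Q := (mem_normalizer_iff.1 hg y).1 hy
  have hbE : b ∈ E := hQE _ hgy (by rw [conj_pow, hyp, mul_one, mul_inv_cancel])
  have ha1 : a ≠ 1 := by
    intro h0
    rw [ha, mul_inv_eq_one, mul_eq_left] at h0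
    exact hy1 h0
  set k : X := (h : X) * g * (h : X)⁻¹ with hk
  have hkab : k * a * k⁻¹ = b := by
    rw [hk, ha, hb]; group
  -- it suffices that `k ∈ H`
  suffices hkH : k ∈ H by
    have h1 : g = (h : X)⁻¹ * k * (h : X) := by rw [hk]; group
    rw [h1]
    exact mul_mem (mul_mem (inv_mem h.2) hkH) h.2
  set C : Subgroup X := centralizer ({a} : Set X) with hCdef
  have hEC : E ≤ C := fun e he => mem_centralizer_singleton_iff.2 (hEab e he a haE)
  set E' : Subgroup X := E.map (MulAut.conj k⁻¹).toMonoidHom with hE'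
  have hE'C : E' ≤ C := by
    rintro _ ⟨e, he, rfl⟩
    refine mem_centralizer_singleton_iff.2 ?_
    change k⁻¹ * e * k⁻¹⁻¹ * a = a * (k⁻¹ * e * k⁻¹⁻¹)
    have h1 : a = k⁻¹ * b * k := by rw [← hkab]; group
    rw [h1]
    calc k⁻¹ * e * k⁻¹⁻¹ * (k⁻¹ * b * k) = k⁻¹ * (e * b) * k := by group
      _ = k⁻¹ * (b * e) * k := by rw [hEab e he b hbE]
      _ = k⁻¹ * b * k * (k⁻¹ * e * k⁻¹⁻¹) := by group
  have hE'p : IsPGroup p E' := hEp.map _
  have hEC' : IsPGroup p (E.subgroupOf C) := hEp.comap_subtype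
  have hE'C' : IsPGroup p (E'.subgroupOf C) := hE'p.comap_subtype
  obtain ⟨S, hS⟩ := hEC'.exists_le_sylow
  obtain ⟨S', hS'⟩ := hE'C'.exists_le_sylow
  obtain ⟨c, hc⟩ := MulAction.exists_smul_eq C S' S
  have hcon : ∀ e ∈ E, (c : X) * (k⁻¹ * e * k) * (c : X)⁻¹ ∈ E := by
    intro e he
    refine hP ((S : Subgroup C).map C.subtype) (S.2.map _) ?_ _ ?_ ?_
    · intro e he
      exact ⟨⟨e, hEC he⟩, hS (mem_subgroupOf.2 he), rfl⟩
    · have h0 : k⁻¹ * e * k ∈ E' := ⟨e, he, by simp⟩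
      have h1 : (⟨k⁻¹ * e * k, hE'C h0⟩ : C) ∈ (S' : Subgroup C) := hS' (mem_subgroupOf.2 h0)
      have h2 : c * ⟨k⁻¹ * e * k, hE'C h0⟩ * c⁻¹ ∈ (S : Subgroup C) := by
        rw [← hc, Sylow.coe_subgroup_smul]
        exact ⟨_, h1, rfl⟩
      exact ⟨_, h2, rfl⟩
    · have h3 : (c : X) * (k⁻¹ * e * k) * (c : X)⁻¹ = (c * k⁻¹) * e * (c * k⁻¹ : X)⁻¹ := by group
      rw [h3, conj_pow, hE1 e he, mul_one, mul_inv_cancel]
  have hnorm : (c : X) * k⁻¹ ∈ normalizer (E : Set X) := by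
    have h1 : E.map (MulAut.conj ((c : X) * k⁻¹)).toMonoidHom ≤ E := by
      rintro _ ⟨e, he, rfl⟩
      have h2 := hcon e he
      have h3 : (c : X) * (k⁻¹ * e * k) * (c : X)⁻¹ = (c * k⁻¹) * e * (c * k⁻¹ : X)⁻¹ := by group
      rw [h3] at h2
      exact h2
    have h2 : E.map (MulAut.conj ((c : X) * k⁻¹)).toMonoidHom = E :=
      Subgroup.eq_of_le_of_card_ge h1 (by rw [card_map_of_injective (MulAut.conj _).injective])
    rw [mem_normalizer_iff]
    intro e
    constructor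
    · intro he
      exact h1 ⟨e, he, rfl⟩
    · intro he
      rw [← h2] at he
      obtain ⟨e', he', hee'⟩ := he
      have h3 : e' = e := (MulAut.conj ((c : X) * k⁻¹)).injective hee'
      rw [← h3]; exact he'
  have hcH : (c : X) ∈ H := hC a haE ha1 c.2
  have h4 := hN hnorm
  have h5 : k = ((c : X) * k⁻¹)⁻¹ * c := by group
  rw [h5]
  exact mul_mem (inv_mem h4) hcH

end

/-- **The generation theorem for `|E| = p ^ 2`.** -/
theorem eq_top_of_noSP {K : Type*} [Group K] [Finite K] [IsSimpleGroup K] (hna : ¬ IsMulCommutative K) {p : ℕ}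
    [hp : Fact p.Prime] {E : Subgroup (MulAut K)} (hE : IsElementaryAbelian p E)
    {x : K} (hx1 : x ≠ 1) (hx : MulAut.conj x ∈ E)
    (hP : ∀ Q : Subgroup (MulAut K), Q ≤ (MulAut.conj : K →* MulAut K).range ⊔ E → IsPGroup p Q → E ≤ Q →
      ∀ y ∈ Q, y ^ p = 1 → y ∈ E)
    (hno : NoSP p ↥((MulAut.conj : K →* MulAut K).range ⊔ E))
    {M : Subgroup K} (hM1 : ∀ y ∈ E, y ≠ 1 → ∀ k, y k = k → k ∈ M)
    (hM2 : ∀ n ∈ normalizer (E : Set (MulAut K)), ∀ k ∈ M, n k ∈ M) : M = ⊤ := by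
  classical
  have hfinA : Finite (MulAut K) := inferInstance
  have hEab : ∀ a ∈ E, ∀ b ∈ E, a * b = b * a := fun a ha b hb =>
    congrArg Subtype.val (hE.1.is_comm.comm (⟨a, ha⟩ : E) ⟨b, hb⟩)
  have hz : center K = ⊥ := by
    rcases (inferInstance : (center K).Normal).eq_bot_or_eq_top with h | h
    · exact h
    · exact absurd (isMulCommutative_iff.2 fun a b => ((mem_center_iff.1 (by rw [h]; trivial : a ∈ center _)) b).symm) hna
  have hinj : Function.Injective (MulAut.conj : K →* MulAut K) := by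
    rw [← MonoidHom.ker_eq_bot_iff, eq_bot_iff, ← hz]
    intro x hx
    rw [MonoidHom.mem_ker] at hx
    rw [mem_center_iff]
    intro y
    have h := DFunLike.congr_fun hx y
    rw [MulAut.conj_apply, MulAut.one_apply] at h
    exact (mul_inv_eq_iff_eq_mul.1 h).symm
  have hconj : ∀ (f : MulAut K) (k : K), f * MulAut.conj k * f⁻¹ = MulAut.conj (f k) := by
    intro f k
    ext z
    simp [MulAut.mul_apply, MulAut.conj_apply, map_mul]
  set I : Subgroup (MulAut K) := (MulAut.conj : K →* MulAut K).range with hI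
  have hIn : I.Normal := ⟨by
    rintro _ ⟨k, rfl⟩ f
    exact ⟨f k, (hconj f k).symm⟩⟩
  set X : Subgroup (MulAut K) := I ⊔ E with hX
  have hEX : E ≤ X := le_sup_right
  have hIX : I ≤ X := le_sup_left
  have hXdec : ∀ f ∈ X, ∃ k : K, ∃ e ∈ E, f = MulAut.conj k * e := by
    intro f hf
    rw [hX, ← SetLike.mem_coe, Subgroup.normal_mul, Set.mem_mul] at hf
    obtain ⟨_, ⟨k, rfl⟩, e, he, rfl⟩ := hf
    exact ⟨k, e, he, rfl⟩
  by_contra hMt
  -- the stabiliser of `M`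
  let H : Subgroup X :=
    { carrier := {f | ∀ k, (f : MulAut K) k ∈ M ↔ k ∈ M}
      one_mem' := fun k => Iff.rfl
      mul_mem' := fun {a b} ha hb k => by
        change ((a : MulAut K) ((b : MulAut K) k)) ∈ M ↔ _
        rw [ha, hb]
      inv_mem' := fun {a} ha k => by
        have h := ha ((a : MulAut K)⁻¹ k)
        rw [MulAut.apply_inv_self] at h
        exact h.symm }
  have hHof : ∀ (f : X), (∀ k ∈ M, (f : MulAut K) k ∈ M) → f ∈ H := by
    intro f hf
    have hbij : Set.BijOn (f : MulAut K) M M := by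
      refine ⟨hf, (f : MulAut K).injective.injOn, ?_⟩
      have h1 : (M.map (f : MulAut K).toMonoidHom) = M := by
        refine Subgroup.eq_of_le_of_card_ge ?_ (by rw [card_map_of_injective (f : MulAut K).injective])
        rintro _ ⟨k, hk, rfl⟩
        exact hf k hk
      intro k hk
      rw [← h1] at hk
      exact hk
    intro k
    refine ⟨fun hk => ?_, fun hk => hf k hk⟩
    obtain ⟨k', hk', he⟩ := hbij.2.2 hk
    rw [← (f : MulAut K).injective he]
    exact hk'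
  have hMconj : ∀ m ∈ M, ∀ h : MulAut.conj m ∈ X, (⟨MulAut.conj m, h⟩ : X) ∈ H := by
    intro m hm h
    refine hHof _ fun k hk => ?_
    exact mul_mem (mul_mem hm hk) (inv_mem hm)
  have hEp : IsPGroup p E := SignalizersComponents.CoprimeGen.isPGroup_of_isElementaryAbelian hE
  have hEn : ∀ e ∈ E, e ∈ normalizer (E : Set (MulAut K)) := fun e he => le_normalizer he
  have hMM : ∀ e ∈ E, ∀ k ∈ M, e k ∈ M := fun e he => hM2 e (hEn e he)
  set EX : Subgroup X := E.subgroupOf X with hEXd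
  have hEXp : IsPGroup p EX := hEp.comap_subtype
  have hx1' : MulAut.conj x ≠ 1 := fun h => hx1 (hinj (by rw [h, map_one]))
  have hxM : x ∈ M := hM1 _ hx hx1' x (by rw [MulAut.conj_apply, mul_inv_cancel_right])
  have hEXH : EX ≤ H := fun e he => hHof e (hMM _ (mem_subgroupOf.1 he))
  have hnorm : ∀ {Q : Subgroup X}, IsPGroup p Q → Q ≤ H → Q ≠ ⊥ → normalizer (Q : Set X) ≤ H := by
    intro Q hQ hQH hne
    refine normalizer_le hEXp ?_ ?_ ?_ hEXH ?_ ?_ hQ hQH hne
    · intro a ha b hb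
      exact Subtype.ext (hEab _ (mem_subgroupOf.1 ha) _ (mem_subgroupOf.1 hb))
    · intro a ha
      exact Subtype.ext (hE.2 _ (mem_subgroupOf.1 ha))
    · intro Q hQ hEQ y hy hyp
      refine mem_subgroupOf.2 (hP (Q.map X.subtype) (map_subtype_le Q) (hQ.map _) ?_ _ ⟨y, hy, rfl⟩ ?_)
      · intro e he
        exact ⟨⟨e, hEX he⟩, hEQ (mem_subgroupOf.2 he), rfl⟩
      · exact congrArg Subtype.val hyp
    · intro y hy hy1 c hc
      have hyE : (y : MulAut K) ∈ E := mem_subgroupOf.1 hy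
      have hy1' : (y : MulAut K) ≠ 1 := fun h => hy1 (Subtype.ext h)
      obtain ⟨k, e, he, hce⟩ := hXdec c c.2
      have hcy : (c : MulAut K) * y = y * c := congrArg Subtype.val (mem_centralizer_singleton_iff.1 hc)
      have h1 : (y : MulAut K) * MulAut.conj k * (y : MulAut K)⁻¹ = MulAut.conj k := by
        have h2 : MulAut.conj k = (c : MulAut K) * e⁻¹ := by rw [hce]; group
        have h3 : (y : MulAut K) * e⁻¹ = e⁻¹ * y := by
          rw [mul_inv_eq_iff_eq_mul, mul_assoc, ← hEab e he y hyE, inv_mul_cancel_left]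
        calc (y : MulAut K) * MulAut.conj k * (y : MulAut K)⁻¹ = (y : MulAut K) * c * e⁻¹ * (y : MulAut K)⁻¹ := by
              rw [h2]; group
          _ = (c : MulAut K) * (y * e⁻¹) * (y : MulAut K)⁻¹ := by rw [← hcy]; group
          _ = (c : MulAut K) * e⁻¹ := by rw [h3]; group
          _ = MulAut.conj k := h2.symm
      rw [hconj] at h1
      have h2 : k ∈ M := hM1 _ hyE hy1' k (hinj h1)
      refine hHof _ fun m hm => ?_
      rw [hce]
      exact mul_mem (mul_mem h2 (hMM e he m hm)) (inv_mem h2)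
    · intro n hn
      refine hHof _ (hM2 _ ?_)
      rw [mem_normalizer_iff]
      intro e
      constructor
      · intro he
        have h1 := (mem_normalizer_iff.1 hn ⟨e, hEX he⟩).1 (mem_subgroupOf.2 he)
        exact mem_subgroupOf.1 h1
      · intro he
        have hX' : e ∈ X := by
          have h0 : (n : MulAut K)⁻¹ * ((n : MulAut K) * e * (n : MulAut K)⁻¹) * n ∈ X :=
            mul_mem (mul_mem (inv_mem n.2) (hEX he)) n.2
          have h1 : (n : MulAut K)⁻¹ * ((n : MulAut K) * e * (n : MulAut K)⁻¹) * n = e := by group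
          rwa [h1] at h0
        exact mem_subgroupOf.1 ((mem_normalizer_iff.1 hn ⟨e, hX'⟩).2 (mem_subgroupOf.2 he))
  refine hno H (of_normIn' ?_ ?_ fun Q h1 h2 h3 => hnorm h1 h2 h3)
  · have h1 : orderOf (⟨⟨MulAut.conj x, hEX hx⟩, hEXH (mem_subgroupOf.2 hx)⟩ : H) = p := by
      rw [Subgroup.orderOf_mk, Subgroup.orderOf_mk]
      exact orderOf_eq_prime (hE.2 _ hx) hx1'
    rw [← h1]
    exact orderOf_dvd_natCard _
  · intro hHt
    have hMn : M.Normal := ⟨by
      intro m hm k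
      have h1 : (⟨MulAut.conj k, hIX ⟨k, rfl⟩⟩ : X) ∈ H := by rw [hHt]; trivial
      exact (h1 m).2 hm⟩
    rcases hMn.eq_bot_or_eq_top with h | h
    · rw [h, mem_bot] at hxM
      exact hx1 hxM
    · exact hMt h

end Cfsg.Agent.H240.GenTwF
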