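import Cfsg.Agent.H240.GenTwF.Tools
import Cfsg.Agent.H818.Gen.Rows
import Cfsg.Agent.OddHalf.Known

/-!
# S2187: simple groups of Lie type with cyclic Sylow `p`-subgroups (helper240)

* `gen_of_cyclic` : `K` simple of Lie type in characteristic `r ≠ p`, cyclic Sylow `p`-subgroups, `Out K` cyclic ⟹ `Gen p K`
  (input `FieldRow` of S2120).
-/

set_option autoImplicit false
set_option linter.unusedSectionVars false

namespace Cfsg.Agent.H240.GenTwF

open Cfsg Subgroup Cfsg.Agent.H818.StrP Cfsg.Agent.H818.Gen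

universe u

/-- `PSL₂(8)` (as `H193.StrP.IsL28`) -/
def IsL28 (K : Type u) [Group K] : Prop :=
  ∃ (F : Type) (_ : Field F) (_ : Fintype F), Fintype.card F = 8 ∧
    Nonempty (K ≃* Matrix.ProjectiveSpecialLinearGroup (Fin 2) F)

/-- `Sz(32)` (as `H193.StrP.IsSz32`) -/
def IsSz32 (K : Type u) [Group K] : Prop :=
  ∃ (F : Type) (_ : Field F) (_ : Fintype F), Fintype.card F = 32 ∧ Nonempty (K ≃* ↥(Lie.Sz F 8))

/-- the input `H193.StrP.FieldRow` of S2120, proved in `H975.FieldInput.fieldRow` (not imported here because of its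
closure) -/
def FieldRow : Prop :=
  ∀ (r p : ℕ) [Fact r.Prime] [Fact p.Prime], p ≠ 2 → p ≠ r → ∀ (X : Type u) [Group X] [Finite X] (K : Subgroup X),
    K.Normal → IsSimpleGroup ↥K → ¬ IsMulCommutative ↥K → centralizer (K : Set X) = ⊥ → IsLieTypeChar r ↥K →
    p ∣ Nat.card ↥K → (∀ P : Sylow p ↥K, IsCyclic ↥(P : Subgroup ↥K)) → ∀ f : X, f ∉ K → orderOf f = p →
    NoSP p X ∨ (p = 3 ∧ IsL28 ↥K) ∨ (p = 5 ∧ IsSz32 ↥K)

section
variable {K : Type u} [Group K] [Finite K] {p : ℕ} [hp : Fact p.Prime]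

/-- an outer element -/
theorem exists_outer_mem (hz : center K = ⊥) (hcyc : ∀ P : Sylow p K, IsCyclic ↥(P : Subgroup K))
    {E : Subgroup (MulAut K)} (hE : IsElementaryAbelian p E) (hc : p ^ 2 ≤ Nat.card E) : ∃ e ∈ E, e ∉ Inn K := by
  by_contra hcon
  push Not at hcon
  exact not_cyclic_of_sq hE hc (cyclic_inn hz hcyc (elab_isPGroup hE) hcon)

/-- the order of `E` is `p ^ 2`, `Inn K` has index `p` in `E` -/
theorem card_eq_sq' (hz : center K = ⊥) (hcyc : ∀ P : Sylow p K, IsCyclic ↥(P : Subgroup K))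
    {E : Subgroup (MulAut K)} (h1 : (Inn K).relIndex E ≤ p) (hE : IsElementaryAbelian p E) (hc : p ^ 2 ≤ Nat.card E) :
    Nat.card E = p ^ 2 ∧ (Inn K).relIndex E = p := by
  have h2 : Nat.card ↥((Inn K).subgroupOf E) ≤ p := by
    have h3 : IsElementaryAbelian p (Inn K ⊓ E) := elab_mono inf_le_right hE
    have h4 : IsCyclic ↥(Inn K ⊓ E) := cyclic_inn hz hcyc (elab_isPGroup h3) inf_le_left
    have h5 : Nat.card ↥(Inn K ⊓ E) ≤ p := card_le_of_cyclic fun x => Subtype.ext (h3.2 x x.2)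
    rw [← inf_subgroupOf_right, Nat.card_congr (subgroupOfEquivOfLe inf_le_right).toEquiv]
    exact h5
  have h3 := ((Inn K).subgroupOf E).card_mul_index
  rw [← relIndex] at h3
  have h4 : (Inn K).relIndex E = p := by
    by_contra hne
    have h5 : (Inn K).relIndex E + 1 ≤ p := by omega
    have h6 : Nat.card E ≤ p * (p - 1) := by
      rw [← h3]
      exact Nat.mul_le_mul h2 (by omega)
    have h7 : p * (p - 1) < p ^ 2 := by
      rw [pow_two]
      exact Nat.mul_lt_mul_of_pos_left (by have := hp.out.pos; omega) hp.out.pos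
    omega
  refine ⟨le_antisymm ?_ hc, h4⟩
  rw [← h3, h4, pow_two]
  exact Nat.mul_le_mul_right p h2

/-- the order of `E` is `p ^ 2`, `Inn K` has index `p` in `E` -/
theorem card_eq_sq (hz : center K = ⊥) (hcyc : ∀ P : Sylow p K, IsCyclic ↥(P : Subgroup K))
    (hQ : IsCyclic (MulAut K ⧸ Inn K))
    {E : Subgroup (MulAut K)} (hE : IsElementaryAbelian p E) (hc : p ^ 2 ≤ Nat.card E) :
    Nat.card E = p ^ 2 ∧ (Inn K).relIndex E = p := card_eq_sq' hz hcyc (relIndex_le hQ hE) hE hc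

/-- `E` contains all elements of order `p` of the `p`-subgroups of `Inn(K) E` above it -/
theorem omega_le (hp2 : p ≠ 2) (hz : center K = ⊥) (hcyc : ∀ P : Sylow p K, IsCyclic ↥(P : Subgroup K))
    {E : Subgroup (MulAut K)} (hE : IsElementaryAbelian p E) (hc : Nat.card E = p ^ 2)
    (hi : (Inn K).relIndex E = p) {Q : Subgroup (MulAut K)} (hQX : Q ≤ Inn K ⊔ E) (hQ : IsPGroup p Q) (hEQ : E ≤ Q)
    {y : MulAut K} (hy : y ∈ Q) (hyp : y ^ p = 1) : y ∈ E := by
  have h1p := hp.out.one_lt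
  have hEX : (Inn K).relIndex (Inn K ⊔ E) = p := by
    rw [relIndex_sup_left, hi]
  have hdv : (Inn K).relIndex Q ∣ (Inn K).relIndex (Inn K ⊔ E) := by
    have h2 : ((Inn K).subgroupOf (Inn K ⊔ E)).relIndex (Q.subgroupOf (Inn K ⊔ E)) ∣
      ((Inn K).subgroupOf (Inn K ⊔ E)).index := relIndex_dvd_index_of_normal _ _
    rw [relIndex_subgroupOf hQX] at h2
    exact h2
  rw [hEX] at hdv
  have hne : (Inn K).relIndex Q ≠ 1 := by
    intro h
    have h2 := hEQ.trans (relIndex_eq_one.1 h)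
    have h3 := relIndex_eq_one.2 h2
    rw [hi] at h3
    omega
  have hQi : (Inn K).relIndex Q = p := ((Nat.dvd_prime hp.out).1 hdv).resolve_left hne
  set C : Subgroup Q := (Inn K).subgroupOf Q with hC
  have hCi : C.index = p := hQi
  have hCc : IsCyclic C := by
    have h2 : IsCyclic ↥(Inn K ⊓ Q) := cyclic_inn hz hcyc (hQ.to_le inf_le_right) inf_le_left
    have h3 : C = (Inn K ⊓ Q).subgroupOf Q := (inf_subgroupOf_right _ _).symm
    rw [h3]
    exact (subgroupOfEquivOfLe (inf_le_right : Inn K ⊓ Q ≤ Q)).isCyclic.2 h2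
  have hQn : ¬ IsCyclic Q := by
    intro h
    apply not_cyclic_of_sq hE (le_of_eq hc.symm)
    exact isCyclic_of_injective (Subgroup.inclusion hEQ) (Subgroup.inclusion_injective hEQ)
  obtain ⟨-, h3⟩ := Cfsg.Agent.S0127.result hp2 hQ hQn C hCc hCi
  have h4 : E.subgroupOf Q ≤ closure {x : Q | x ^ p = 1} := by
    intro e he
    exact subset_closure (Subtype.ext (hE.2 _ (mem_subgroupOf.1 he)))
  have h5 : E.subgroupOf Q = closure {x : Q | x ^ p = 1} := by
    refine Subgroup.eq_of_le_of_card_ge h4 ?_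
    rw [h3, Nat.card_congr (subgroupOfEquivOfLe hEQ).toEquiv, hc]
  have h6 : (⟨y, hy⟩ : Q) ∈ closure {x : Q | x ^ p = 1} := subset_closure (Subtype.ext hyp)
  rw [← h5] at h6
  exact mem_subgroupOf.1 h6

end

/-- **simple groups of Lie type with cyclic Sylow `p`-subgroups: a single `E` with `E / (E ∩ Inn K)` of order `≤ p`** -/
theorem Gam_of_cyclic (hF : FieldRow.{u}) {r p : ℕ} (hcd : Cond r p) {K : Type u} [Group K] [Finite K] [hs : IsSimpleGroup K]
    (hna : ¬ IsMulCommutative K) (hK : IsLieTypeChar r K) (hcyc : ∀ P : Sylow p K, IsCyclic ↥(P : Subgroup K))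
    (h3 : ¬ (p = 3 ∧ IsL28 K)) (h5 : ¬ (p = 5 ∧ IsSz32 K)) {E : Subgroup (MulAut K)} (hE : IsElementaryAbelian p E)
    (hc : p ^ 2 ≤ Nat.card E) (hQ : (Inn K).relIndex E ≤ p) : Gam p E = ⊤ := by
  have hp : Fact p.Prime := ⟨hcd.p_prime⟩
  have hr : Fact r.Prime := ⟨hcd.r_prime⟩
  have h1p := hp.out.one_lt
  have hz := center_bot (K := K) hna
  have hinj := conj_injective hz
  by_cases hd : p ∣ Nat.card K
  swap
  · rw [eq_top_iff]
    refine le_Gam_of_coprime hE hc (X := ⊤) ?_ fun _ _ _ _ => mem_top _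
    rwa [card_top]
  obtain ⟨hc2, hi⟩ := card_eq_sq' hz hcyc hQ hE hc
  obtain ⟨x, hx1, hx⟩ : ∃ x : K, x ≠ 1 ∧ MulAut.conj x ∈ E := by
    by_contra hcon
    push Not at hcon
    have h1 : (Inn K).subgroupOf E = ⊥ := by
      rw [eq_bot_iff]
      intro a ha
      obtain ⟨y, hy⟩ := mem_subgroupOf.1 ha
      rw [mem_bot]
      have h2 : y = 1 := by
        by_contra h2
        exact hcon y h2 (by rw [hy]; exact a.2)
      exact Subtype.ext (by rw [← hy, h2, map_one]; rfl)
    rw [relIndex, h1, index_bot, hc2, pow_two] at hi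
    nlinarith
  obtain ⟨e, he, hei⟩ := exists_outer_mem hz hcyc hE hc
  refine Gam_eq_top_of_noSP hna hE hc2 hx1 hx ?_ ?_
  · intro Q hQX hQp hEQ y hy hyp
    exact omega_le hcd.p_ne_two hz hcyc hE hc2 hi hQX hQp hEQ hy hyp
  · set X : Subgroup (MulAut K) := Inn K ⊔ E with hX
    set I : Subgroup X := (Inn K).subgroupOf X with hI
    have hIn : I.Normal := inferInstance
    have e1 : K ≃* Inn K := MonoidHom.ofInjective hinj
    have e2 : K ≃* I := e1.trans (subgroupOfEquivOfLe (le_sup_left : Inn K ≤ X)).symm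
    have hIs : IsSimpleGroup I := (MulEquiv.isSimpleGroup_congr e2).1 hs
    have hIna : ¬ IsMulCommutative I := by
      intro h
      apply hna
      refine isMulCommutative_iff.2 fun a b => e2.injective ?_
      rw [map_mul, map_mul]
      exact h.1.1 _ _
    have hCI : centralizer (I : Set X) = ⊥ := by
      rw [eq_bot_iff]
      intro f hf
      rw [mem_bot]
      apply Subtype.ext
      ext k
      have h1 : (⟨MulAut.conj k, (le_sup_left : Inn K ≤ X) ⟨k, rfl⟩⟩ : X) ∈ (I : Set X) := by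
        show _ ∈ I
        exact mem_subgroupOf.2 ⟨k, rfl⟩
      have h2 := congrArg (fun z : X => (z : MulAut K)) ((mem_centralizer_iff.1 hf) _ h1)
      have h4 : (f : MulAut K) * MulAut.conj k * (f : MulAut K)⁻¹ = MulAut.conj k := by
        rw [mul_inv_eq_iff_eq_mul]
        exact h2.symm
      rw [conj_conj] at h4
      exact hinj h4
    have hIK : IsLieTypeChar r I := OddHalf.Known.isLieTypeChar_congr e2 hK
    have hdI : p ∣ Nat.card I := by rwa [← Nat.card_congr e2.toEquiv]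
    have hIc : ∀ P : Sylow p I, IsCyclic ↥(P : Subgroup I) := by
      intro P
      have h1 : ((P : Subgroup I).map I.subtype).map X.subtype ≤ Inn K := by
        rintro _ ⟨_, ⟨a, -, rfl⟩, rfl⟩
        exact mem_subgroupOf.1 a.2
      have h2 : IsCyclic ↥(((P : Subgroup I).map I.subtype).map X.subtype) :=
        cyclic_inn hz hcyc ((P.2.map _).map _) h1
      have h3 : IsCyclic ↥((P : Subgroup I).map I.subtype) :=
        ((((P : Subgroup I).map I.subtype).equivMapOfInjective X.subtype X.subtype_injective)).isCyclic.2 h2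
      exact (((P : Subgroup I).equivMapOfInjective I.subtype I.subtype_injective)).isCyclic.2 h3
    have hfo : orderOf (⟨e, (le_sup_right : E ≤ X) he⟩ : X) = p := by
      rw [Subgroup.orderOf_mk]
      refine orderOf_eq_prime (hE.2 e he) ?_
      rintro rfl
      exact hei (one_mem _)
    rcases hF r p hcd.p_ne_two hcd.p_ne_r X I hIn hIs hIna hCI hIK hdI hIc ⟨e, (le_sup_right : E ≤ X) he⟩
      (fun h => hei (mem_subgroupOf.1 h)) hfo with h | ⟨h, h'⟩ | ⟨h, h'⟩
    · exact h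
    · exfalso
      obtain ⟨F, i1, i2, h8, ⟨f⟩⟩ := h'
      exact h3 ⟨h, F, i1, i2, h8, ⟨e2.trans f⟩⟩
    · exfalso
      obtain ⟨F, i1, i2, h8, ⟨f⟩⟩ := h'
      exact h5 ⟨h, F, i1, i2, h8, ⟨e2.trans f⟩⟩

/-- **simple groups of Lie type with cyclic Sylow `p`-subgroups and cyclic outer automorphism group** -/
theorem gen_of_cyclic (hF : FieldRow.{u}) {r p : ℕ} (hcd : Cond r p) {K : Type u} [Group K] [Finite K] [hs : IsSimpleGroup K]
    (hna : ¬ IsMulCommutative K) (hK : IsLieTypeChar r K) (hcyc : ∀ P : Sylow p K, IsCyclic ↥(P : Subgroup K))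
    (hQ : IsCyclic (MulAut K ⧸ Inn K)) (h3 : ¬ (p = 3 ∧ IsL28 K)) (h5 : ¬ (p = 5 ∧ IsSz32 K)) : Gen p K := by
  have hp : Fact p.Prime := ⟨hcd.p_prime⟩
  intro E hE hc
  exact Gam_of_cyclic hF hcd hna hK hcyc h3 h5 hE hc (relIndex_le hQ hE)

end Cfsg.Agent.H240.GenTwF
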