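import Cfsg.Agent.H240.GenTwF.Pair

/-!
# S2187: elementary abelian groups containing a "field automorphism" `ψ` (helper240)

* `decomp` : `E = (E ∩ Inn G) ⟨ψ⟩`;
* `fix_le_Gam` : `C_G(ψ) ≤ Gam p E`, given the theorem for inner automorphisms of `C_G(ψ)`;
* `pair_le_Gam` : `L, M ≤ Gam p E` for two `ψ`-invariant commuting subgroups `L`, `M` such that `p`-subgroups of `C_G(ψ)`
  are conjugate in `C_G(ψ)` into `L M`.
-/

set_option autoImplicit false
set_option linter.unusedSectionVars false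
set_option linter.unusedVariables false

namespace Cfsg.Agent.H240.GenTwF

open Cfsg Subgroup Cfsg.Agent.H818.Gen

variable {G : Type*} [Group G] [Finite G] {p : ℕ} [hp : Fact p.Prime]

/-- `E = (E ∩ Inn G) ⟨ψ⟩` -/
theorem decomp {E : Subgroup (MulAut G)} (hE : IsElementaryAbelian p E) (hrel : (Inn G).relIndex E ≤ p) {ψ : MulAut G}
    (hψ : ψ ∈ E) (hψ' : ψ ∉ Inn G) {e : MulAut G} (he : e ∈ E) :
    ∃ (x : G) (k : ℤ), MulAut.conj x ∈ E ∧ e = MulAut.conj x * ψ ^ k := by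
  let q : E →* MulAut G ⧸ Inn G := (QuotientGroup.mk' _).comp E.subtype
  have h1 : q.ker = (Inn G).subgroupOf E := by
    ext a
    rw [MonoidHom.mem_ker, mem_subgroupOf]
    exact QuotientGroup.eq_one_iff (a : MulAut G)
  have h2 : Nat.card q.range ≤ p := by
    rw [← index_ker, h1]
    exact hrel
  have h3 : q ⟨ψ, hψ⟩ ≠ 1 := fun h => hψ' ((QuotientGroup.eq_one_iff ψ).1 h)
  have h4 : orderOf (q ⟨ψ, hψ⟩) = p := by
    refine orderOf_eq_prime ?_ h3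
    rw [← map_pow, show (⟨ψ, hψ⟩ : E) ^ p = 1 from Subtype.ext (hE.2 ψ hψ), map_one]
  have h5 : zpowers (q ⟨ψ, hψ⟩) = q.range := by
    refine eq_of_le_of_card_ge (zpowers_le.2 ⟨_, rfl⟩) ?_
    rw [Nat.card_zpowers, h4]
    exact h2
  have h6 : q ⟨e, he⟩ ∈ zpowers (q ⟨ψ, hψ⟩) := by rw [h5]; exact ⟨_, rfl⟩
  obtain ⟨k, hk⟩ := mem_zpowers_iff.1 h6
  have h7 : q (⟨e, he⟩ * (⟨ψ, hψ⟩ ^ k)⁻¹) = 1 := by
    rw [map_mul, map_inv, map_zpow, hk, mul_inv_cancel]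
  obtain ⟨x, hx⟩ := (QuotientGroup.eq_one_iff _).1 h7
  have hx' : MulAut.conj x = e * (ψ ^ k)⁻¹ := hx
  refine ⟨x, k, ?_, ?_⟩
  · rw [hx']
    exact mul_mem he (inv_mem (zpow_mem hψ k))
  · rw [hx', inv_mul_cancel_right]

theorem comm_of_elab {E : Subgroup (MulAut G)} (hE : IsElementaryAbelian p E) {a b : MulAut G} (ha : a ∈ E) (hb : b ∈ E) :
    a * b = b * a := congrArg Subtype.val (hE.1.1.1 ⟨a, ha⟩ ⟨b, hb⟩)

/-- inner elements are fixed by `ψ` -/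
theorem fixed_of_inner (hz : center G = ⊥) {E : Subgroup (MulAut G)} (hE : IsElementaryAbelian p E) {ψ : MulAut G}
    (hψ : ψ ∈ E) {x : G} (hx : MulAut.conj x ∈ E) : ψ x = x := by
  apply conj_injective hz
  rw [← conj_conj, comm_of_elab hE hψ hx, mul_inv_cancel_right]

theorem zpow_fixed {ψ : MulAut G} {x : G} (h : ψ x = x) (k : ℤ) : (ψ ^ k) x = x := by
  have h2 : ψ ∈ MulAction.stabilizer (MulAut G) x := h
  exact (MulAction.stabilizer (MulAut G) x).zpow_mem h2 k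

theorem zpow_mem_of {ψ : MulAut G} {L : Subgroup G} (h : ∀ x ∈ L, ψ x ∈ L) (k : ℤ) : ∀ x ∈ L, (ψ ^ k) x ∈ L := by
  have h1 : ∀ x, ψ x ∈ L ↔ x ∈ L := by
    intro x
    refine ⟨fun hx => ?_, h x⟩
    let f : L → L := fun a => ⟨ψ a, h a a.2⟩
    have hf : Function.Surjective f := Finite.surjective_of_injective (by
      intro a b hab
      exact Subtype.ext (ψ.injective (congrArg Subtype.val hab)))
    obtain ⟨a, ha⟩ := hf ⟨ψ x, hx⟩
    rw [← ψ.injective (congrArg Subtype.val ha : ψ a = ψ x)]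
    exact a.2
  let D : Subgroup (MulAut G) :=
    { carrier := {f | ∀ x, f x ∈ L ↔ x ∈ L}
      one_mem' := fun x => Iff.rfl
      mul_mem' := fun {a b} ha hb x => by
        rw [MulAut.mul_apply, ha, hb]
      inv_mem' := fun {a} ha x => by
        have := ha (a⁻¹ x)
        rw [MulAut.apply_inv_self] at this
        exact this.symm }
  have h2 : ψ ∈ D := h1
  intro x hx
  exact ((D.zpow_mem h2 k) x).2 hx

/-- **`C_G(ψ) ≤ Gam p E`** -/
theorem fix_le_Gam (hz : center G = ⊥) {E : Subgroup (MulAut G)} (hE : IsElementaryAbelian p E) (hc : p ^ 2 ≤ Nat.card E)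
    (hrel : (Inn G).relIndex E ≤ p) {ψ : MulAut G} (hψ : ψ ∈ E) (hψ' : ψ ∉ Inn G)
    (hGC : ∀ E' : Subgroup (MulAut ↥(fixedSubgroup ψ)), IsElementaryAbelian p E' → p ^ 2 ≤ Nat.card E' → E' ≤ Inn _ →
      Gam p E' = ⊤) : fixedSubgroup ψ ≤ Gam p E := by
  have hEC : ∀ φ ∈ E, ∀ x ∈ fixedSubgroup ψ, φ x ∈ fixedSubgroup ψ := by
    intro φ hφ x hx
    show ψ (φ x) = φ x
    have hx' : ψ x = x := hx
    rw [← MulAut.mul_apply, comm_of_elab hE hψ hφ, MulAut.mul_apply, hx']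
  refine le_Gam_of_range hE hc hEC fun h => hGC _ (elab_range hE _) h ?_
  rintro _ ⟨⟨e, he⟩, rfl⟩
  obtain ⟨x, k, hx, hex⟩ := decomp hE hrel hψ hψ' he
  have hxf : ψ x = x := fixed_of_inner hz hE hψ hx
  refine ⟨⟨x, hxf⟩, ?_⟩
  ext ⟨y, hy⟩
  show x * y * x⁻¹ = e y
  rw [hex, MulAut.mul_apply, MulAut.conj_apply, zpow_fixed hy k]

/-- **`L ≤ Gam p E`** -/
theorem pair_le_Gam (hz : center G = ⊥) {E : Subgroup (MulAut G)} (hE : IsElementaryAbelian p E) (hc : p ^ 2 ≤ Nat.card E)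
    (hrel : (Inn G).relIndex E ≤ p) {ψ : MulAut G} (hψ : ψ ∈ E) (hψ' : ψ ∉ Inn G) {L M : Subgroup G}
    (hcomm : ∀ l ∈ L, ∀ m ∈ M, l * m = m * l) (hψL : ∀ x ∈ L, ψ x ∈ L)
    (hGL : ∀ L' : Subgroup G, Nonempty (L ≃* L') → ∀ E' : Subgroup (MulAut L'), IsElementaryAbelian p E' →
      p ^ 2 ≤ Nat.card E' → (Inn L').relIndex E' ≤ p → Gam p E' = ⊤)
    {g : G} (hg : ψ g = g) (hgG : g ∈ Gam p E)
    (hconj : ∀ a, MulAut.conj a ∈ E → ∃ l ∈ L, ∃ m ∈ M, g * a * g⁻¹ = l * m) : L ≤ Gam p E := by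
  set L' : Subgroup G := L.comap (MulAut.conj g).toMonoidHom with hL'
  have hmem : ∀ x, x ∈ L' ↔ g * x * g⁻¹ ∈ L := fun x => Iff.rfl
  have hmap : L'.map (MulAut.conj g).toMonoidHom = L :=
    map_comap_eq_self_of_surjective (MulAut.conj g).surjective _
  have e : ↥L ≃* ↥L' :=
    ((L'.equivMapOfInjective (MulAut.conj g).toMonoidHom (MulAut.conj g).injective).trans
      (MulEquiv.subgroupCongr hmap)).symm
  -- the action of the elements of `L M`
  have hact : ∀ a, MulAut.conj a ∈ E → ∃ l ∈ L', ∀ x ∈ L', a * x * a⁻¹ = l * x * l⁻¹ := by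
    intro a ha
    obtain ⟨l, hl, m, hm, h⟩ := hconj a ha
    have h1 : g * (g⁻¹ * l * g) * g⁻¹ = l := by group
    refine ⟨g⁻¹ * l * g, (hmem _).2 (by rw [h1]; exact hl), fun x hx => ?_⟩
    have hx' := (hmem x).1 hx
    have h2 := hcomm _ hx' m hm
    have h3 : a = g⁻¹ * (l * m) * g := by rw [← h]; group
    have h4 : m * (g * x * g⁻¹) * m⁻¹ = g * x * g⁻¹ := by rw [← h2, mul_inv_cancel_right]
    calc a * x * a⁻¹ = g⁻¹ * (l * (m * (g * x * g⁻¹) * m⁻¹) * l⁻¹) * g := by rw [h3]; group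
      _ = g⁻¹ * (l * (g * x * g⁻¹) * l⁻¹) * g := by rw [h4]
      _ = _ := by group
  have hψL' : ∀ x ∈ L', ψ x ∈ L' := by
    intro x hx
    rw [hmem] at hx ⊢
    have h1 := hψL _ hx
    rwa [map_mul, map_mul, map_inv, hg] at h1
  have hEL : ∀ φ ∈ E, ∀ x ∈ L', φ x ∈ L' := by
    intro φ hφ x hx
    obtain ⟨a, k, ha, hak⟩ := decomp hE hrel hψ hψ' hφ
    have h1 := zpow_mem_of hψL' k x hx
    obtain ⟨l, hl, h⟩ := hact a ha
    rw [hak, MulAut.mul_apply, MulAut.conj_apply, h _ h1]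
    exact mul_mem (mul_mem hl h1) (inv_mem hl)
  have hle : L' ≤ Gam p E := by
    refine le_Gam_of_range hE hc hEL fun h => hGL L' ⟨e⟩ _ (elab_range hE _) h ?_
    rw [← index_comap]
    have h1 : (Inn G).subgroupOf E ≤ (Inn L').comap (resE E L' hEL) := by
      intro a ha
      obtain ⟨y, hy⟩ := mem_subgroupOf.1 ha
      obtain ⟨l, hl, h⟩ := hact y (by rw [hy]; exact a.2)
      refine ⟨⟨l, hl⟩, ?_⟩
      ext ⟨x, hx⟩
      show l * x * l⁻¹ = (a : MulAut G) x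
      rw [← hy, MulAut.conj_apply, h x hx]
    have h2 := index_dvd_of_le h1
    have h3 : 0 < ((Inn G).subgroupOf E).index := Nat.pos_of_ne_zero FiniteIndex.index_ne_zero
    exact (Nat.le_of_dvd h3 h2).trans hrel
  intro l hl
  have h1 : g * (g⁻¹ * l * g) * g⁻¹ = l := by group
  rw [← h1]
  exact mul_mem (mul_mem hgG (hle ((hmem _).2 (by rw [h1]; exact hl)))) (inv_mem hgG)

end Cfsg.Agent.H240.GenTwF
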