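import Cfsg.Agent.H240.GenTwF.Cyclic
import Cfsg.Agent.H240.BalTwF.Abs

/-!
# S2187, row `²F₄`: two commuting subgroups containing a Sylow `p`-subgroup; the case `E ≤ Inn K` (helper240)

* `PairD p L M` : `L`, `M` commute, `L ∩ M = 1`, `|L| = |M|`, `|G|_p ≤ |L|_p ^ 2`;
* `PairD.exists_conj` : `p`-subgroups are conjugate into `L M`;
* `PairD.rank` : rank at most two, if the `p`-subgroups of `L` and `M` are cyclic;
* `Gam_inner` : **`Gam p E = ⊤` for `E ≤ Inn K`**, if the `p`-subgroups are abelian of rank at most two and there are no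
  strongly `p`-embedded subgroups.
-/

set_option autoImplicit false
set_option linter.unusedSectionVars false

namespace Cfsg.Agent.H240.GenTwF

open Cfsg Subgroup Cfsg.Agent.H818.StrP Cfsg.Agent.H818.Gen

section

variable {G : Type*} [Group G] {p : ℕ}

/-- two commuting subgroups whose product contains a Sylow `p`-subgroup -/
structure PairD (p : ℕ) (L M : Subgroup G) : Prop where
  comm : ∀ l ∈ L, ∀ m ∈ M, l * m = m * l
  inf : ∀ x ∈ L, x ∈ M → x = 1
  card : Nat.card M = Nat.card L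
  fact : (Nat.card G).factorization p ≤ 2 * (Nat.card L).factorization p

variable {L M : Subgroup G}

theorem PairD.uniq (h : PairD p L M) {x y x' y' : G} (hx : x ∈ L) (hy : y ∈ M) (hx' : x' ∈ L) (hy' : y' ∈ M)
    (h1 : x * y = x' * y') : x = x' ∧ y = y' := by
  have h2 : x'⁻¹ * x = y' * y⁻¹ := by
    rw [eq_mul_inv_iff_mul_eq, mul_assoc, h1, inv_mul_cancel_left]
  have h3 : x'⁻¹ * x = 1 := h.inf _ (mul_mem (inv_mem hx') hx) (by
    rw [h2]; exact mul_mem hy' (inv_mem hy))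
  have h4 : x = x' := (inv_mul_eq_one.1 h3).symm
  subst h4
  exact ⟨rfl, mul_left_cancel h1⟩

/-- the product -/
def PairD.prod (h : PairD p L M) : Subgroup G where
  carrier := {g | ∃ x ∈ L, ∃ y ∈ M, g = x * y}
  one_mem' := ⟨1, one_mem _, 1, one_mem _, by simp⟩
  mul_mem' := by
    rintro _ _ ⟨x, hx, y, hy, rfl⟩ ⟨x', hx', y', hy', rfl⟩
    refine ⟨x * x', mul_mem hx hx', y * y', mul_mem hy hy', ?_⟩
    calc x * y * (x' * y') = x * (y * x') * y' := by group
      _ = x * (x' * y) * y' := by rw [h.comm x' hx' y hy]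
      _ = x * x' * (y * y') := by group
  inv_mem' := by
    rintro _ ⟨x, hx, y, hy, rfl⟩
    refine ⟨x⁻¹, inv_mem hx, y⁻¹, inv_mem hy, ?_⟩
    rw [mul_inv_rev, h.comm x⁻¹ (inv_mem hx) y⁻¹ (inv_mem hy)]

variable [Finite G] [hp : Fact p.Prime]

theorem PairD.card_prod (h : PairD p L M) : Nat.card h.prod = Nat.card L * Nat.card M := by
  rw [← Nat.card_prod]
  symm
  refine Nat.card_eq_of_bijective (fun x : L × M => (⟨x.1 * x.2, x.1, x.1.2, x.2, x.2.2, rfl⟩ : h.prod)) ⟨?_, ?_⟩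
  · rintro ⟨⟨x, hx⟩, ⟨y, hy⟩⟩ ⟨⟨x', hx'⟩, ⟨y', hy'⟩⟩ h0
    obtain ⟨h1, h2⟩ := h.uniq hx hy hx' hy' (congrArg Subtype.val h0)
    subst h1; subst h2; rfl
  · rintro ⟨g, x, hx, y, hy, rfl⟩
    exact ⟨(⟨x, hx⟩, ⟨y, hy⟩), rfl⟩

theorem PairD.index (h : PairD p L M) : ¬ p ∣ h.prod.index := by
  intro hd
  have h1 := h.prod.card_mul_index
  have hL : Nat.card L ≠ 0 := Nat.card_pos.ne'
  have hi : h.prod.index ≠ 0 := FiniteIndex.index_ne_zero
  have h2 : (Nat.card G).factorization p = 2 * (Nat.card L).factorization p + h.prod.index.factorization p := by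
    rw [← h1, h.card_prod, h.card, Nat.factorization_mul (mul_ne_zero hL hL) hi, Nat.factorization_mul hL hL,
      Finsupp.add_apply, Finsupp.add_apply]
    ring
  have h3 : 0 < h.prod.index.factorization p := hp.out.factorization_pos_of_dvd hi hd
  have := h.fact
  omega

/-- **`p`-subgroups are conjugate into `L M`** -/
theorem PairD.exists_conj (h : PairD p L M) {A : Subgroup G} (hA : IsPGroup p A) :
    ∃ g : G, ∀ a ∈ A, ∃ l ∈ L, ∃ m ∈ M, g * a * g⁻¹ = l * m :=
  H240.BalTwF.exists_conj_le hp.out h.index hA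

/-- **rank at most two** -/
theorem PairD.rank (h : PairD p L M) (hcL : ∀ P : Subgroup G, P ≤ L → IsPGroup p P → IsCyclic P)
    (hcM : ∀ P : Subgroup G, P ≤ M → IsPGroup p P → IsCyclic P) {A : Subgroup G} (hA : IsElementaryAbelian p A) :
    Nat.card A ≤ p ^ 2 := by
  classical
  obtain ⟨g, hg⟩ := h.exists_conj (elab_isPGroup hA)
  choose! fx hfx fy hfy hfxy using hg
  have hmul : ∀ a b : A, fx (a * b) = fx a * fx b ∧ fy (a * b) = fy a * fy b := by
    intro a b
    refine h.uniq (hfx _ (mul_mem a.2 b.2)) (hfy _ (mul_mem a.2 b.2)) (mul_mem (hfx _ a.2) (hfx _ b.2))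
      (mul_mem (hfy _ a.2) (hfy _ b.2)) ?_
    rw [← hfxy _ (mul_mem a.2 b.2)]
    calc g * ((a : G) * b) * g⁻¹ = (g * a * g⁻¹) * (g * b * g⁻¹) := by group
      _ = fx a * (fy a * fx b) * fy b := by rw [hfxy a a.2, hfxy b b.2]; group
      _ = fx a * (fx b * fy a) * fy b := by rw [h.comm _ (hfx _ b.2) _ (hfy _ a.2)]
      _ = _ := by group
  let πx : A →* G := MonoidHom.mk' (fun a => fx a) fun a b => (hmul a b).1
  let πy : A →* G := MonoidHom.mk' (fun a => fy a) fun a b => (hmul a b).2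
  have hle : ∀ (π : A →* G), IsCyclic π.range → Nat.card π.range ≤ p := by
    intro π hπ
    refine card_le_of_cyclic fun x => ?_
    obtain ⟨_, a, rfl⟩ := x
    refine Subtype.ext ?_
    show π a ^ p = 1
    rw [← map_pow, show a ^ p = 1 from Subtype.ext (hA.2 a a.2), map_one]
  have hpg : ∀ (π : A →* G), IsPGroup p π.range := fun π => by
    rintro ⟨_, a, rfl⟩
    refine ⟨1, Subtype.ext ?_⟩
    show π a ^ p ^ 1 = 1
    rw [pow_one, ← map_pow, show a ^ p = 1 from Subtype.ext (hA.2 a a.2), map_one]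
  have h1 : Nat.card πx.range ≤ p := hle _ (hcL _ (by rintro _ ⟨a, rfl⟩; exact hfx _ a.2) (hpg _))
  have h2 : Nat.card πy.range ≤ p := hle _ (hcM _ (by rintro _ ⟨a, rfl⟩; exact hfy _ a.2) (hpg _))
  have h3 : Nat.card A ≤ Nat.card (πx.range × πy.range) := by
    refine Nat.card_le_card_of_injective (fun a : A => ((⟨πx a, a, rfl⟩ : πx.range), (⟨πy a, a, rfl⟩ : πy.range))) ?_
    intro a b hab
    have e1 : fx a = fx b := congrArg (fun w => ((w.1 : πx.range) : G)) hab
    have e2 : fy a = fy b := congrArg (fun w => ((w.2 : πy.range) : G)) hab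
    have e3 := hfxy a a.2
    rw [e1, e2, ← hfxy b b.2] at e3
    exact Subtype.ext (mul_left_cancel (mul_right_cancel e3))
  rw [Nat.card_prod] at h3
  calc Nat.card A ≤ _ := h3
    _ ≤ p * p := Nat.mul_le_mul h1 h2
    _ = p ^ 2 := (pow_two p).symm

end

section

variable {K : Type*} [Group K] [Finite K] {p : ℕ} [hp : Fact p.Prime]

/-- **inner automorphisms** -/
theorem Gam_inner [IsSimpleGroup K] (hna : ¬ IsMulCommutative K)
    (hab : ∀ P : Subgroup K, IsPGroup p P → ∀ a ∈ P, ∀ b ∈ P, a * b = b * a)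
    (hrk : ∀ A : Subgroup K, IsElementaryAbelian p A → Nat.card A ≤ p ^ 2) (hno : NoSP p K)
    {E : Subgroup (MulAut K)} (hE : IsElementaryAbelian p E) (hc : p ^ 2 ≤ Nat.card E) (hI : E ≤ Inn K) :
    Gam p E = ⊤ := by
  have h1p := hp.out.one_lt
  have hz := center_bot (K := K) hna
  have hinj := conj_injective hz
  -- the pull back of subgroups of `Inn K`
  have hmap : ∀ Q : Subgroup (MulAut K), Q ≤ Inn K →
      (Q.comap (MulAut.conj : K →* MulAut K)).map (MulAut.conj : K →* MulAut K) = Q := fun Q hQ => map_comap_eq_self hQ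
  have hcard : ∀ Q : Subgroup (MulAut K), Q ≤ Inn K → Nat.card ↥(Q.comap (MulAut.conj : K →* MulAut K)) = Nat.card Q := by
    intro Q hQ
    have h1 := Nat.card_congr ((Q.comap (MulAut.conj : K →* MulAut K)).equivMapOfInjective _ hinj).toEquiv
    rw [hmap Q hQ] at h1
    exact h1
  have hel : ∀ Q : Subgroup (MulAut K), IsElementaryAbelian p Q →
      IsElementaryAbelian p (Q.comap (MulAut.conj : K →* MulAut K)) := by
    intro Q hQ
    refine ⟨⟨⟨fun a b => ?_⟩⟩, fun a ha => hinj (by rw [map_pow, hQ.2 _ ha, map_one])⟩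
    refine Subtype.ext (hinj ?_)
    show MulAut.conj ((a : K) * b) = MulAut.conj ((b : K) * a)
    rw [map_mul, map_mul]
    exact congrArg Subtype.val (hQ.1.1.1 ⟨_, a.2⟩ ⟨_, b.2⟩)
  have hrk' : ∀ Q : Subgroup (MulAut K), Q ≤ Inn K → IsElementaryAbelian p Q → Nat.card Q ≤ p ^ 2 := by
    intro Q hQ hQ'
    rw [← hcard Q hQ]
    exact hrk _ (hel Q hQ')
  have hc2 : Nat.card E = p ^ 2 := le_antisymm (hrk' E hI hE) hc
  obtain ⟨x, hx1, hx⟩ : ∃ x : K, x ≠ 1 ∧ MulAut.conj x ∈ E := by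
    have h1 : Nontrivial E := Finite.one_lt_card_iff_nontrivial.1 (by rw [hc2]; exact Nat.one_lt_pow two_ne_zero h1p)
    obtain ⟨⟨e, he⟩, hne⟩ := exists_ne (1 : E)
    obtain ⟨x, rfl⟩ := hI he
    refine ⟨x, ?_, he⟩
    rintro rfl
    exact hne (Subtype.ext (map_one _))
  have hsup : Inn K ⊔ E = Inn K := sup_eq_left.2 hI
  refine Gam_eq_top_of_noSP hna hE hc2 hx1 hx ?_ ?_
  · intro Q hQX hQp hEQ y hy hyp
    rw [hsup] at hQX
    have hQab : ∀ a ∈ Q, ∀ b ∈ Q, a * b = b * a := by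
      intro a ha b hb
      obtain ⟨a, rfl⟩ := hQX ha
      obtain ⟨b, rfl⟩ := hQX hb
      rw [← map_mul, ← map_mul, hab _ (hQp.comap_of_injective _ hinj) a ha b hb]
    -- the group generated by `E` and `y`
    have hD : IsElementaryAbelian p (E ⊔ zpowers y) := by
      have hle : E ⊔ zpowers y ≤ Q := sup_le hEQ (zpowers_le.2 hy)
      refine ⟨⟨⟨fun a b => Subtype.ext (hQab _ (hle a.2) _ (hle b.2))⟩⟩, ?_⟩
      have h1 : E ⊔ zpowers y ≤ Subgroup.closure {a : MulAut K | a ∈ Q ∧ a ^ p = 1} :=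
        sup_le (fun e he => subset_closure ⟨hEQ he, hE.2 e he⟩) (zpowers_le.2 (subset_closure ⟨hy, hyp⟩))
      have h2 : ∀ a ∈ Subgroup.closure {a : MulAut K | a ∈ Q ∧ a ^ p = 1}, a ∈ Q ∧ a ^ p = 1 := by
        intro a ha
        induction ha using Subgroup.closure_induction with
        | mem a ha => exact ha
        | one => exact ⟨one_mem _, one_pow _⟩
        | mul a b _ _ ha hb =>
          refine ⟨mul_mem ha.1 hb.1, ?_⟩
          rw [(show Commute a b from hQab a ha.1 b hb.1).mul_pow, ha.2, hb.2, mul_one]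
        | inv a _ ha => exact ⟨inv_mem ha.1, by rw [inv_pow, ha.2, inv_one]⟩
      exact fun a ha => (h2 a (h1 ha)).2
    have h3 := hrk' _ (sup_le hI ((zpowers_le.2 hy).trans hQX)) hD
    have h4 : E = E ⊔ zpowers y := eq_of_le_of_card_ge le_sup_left (by rw [hc2]; exact h3)
    rw [h4]
    exact mem_sup_right (mem_zpowers y)
  · have e1 : K ≃* ↥(Inn K ⊔ E) := (MonoidHom.ofInjective hinj).trans (MulEquiv.subgroupCongr hsup.symm)
    exact noSP_congr e1 hno

end

end Cfsg.Agent.H240.GenTwF
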