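import Cfsg.Agent.H240.GenTwF.Cyclic
import Cfsg.Agent.H28.T5RankOne
import Cfsg.Agent.S1163

/-!
# S2187: the rows of the Suzuki groups and of the small Ree groups (helper240)
-/

set_option autoImplicit false

namespace Cfsg.Agent.H240.GenTwF

open Cfsg Subgroup Cfsg.Agent.H818.Gen
open Cfsg.Agent.H28.T5RankOne

universe u

/-- **The row of the Suzuki groups** -/
theorem gen_sz (hF : FieldRow.{0}) {F : Type} [Field F] [Fintype F] {m : ℕ} (hm : 1 ≤ m)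
    (hc : Fintype.card F = 2 ^ (2 * m + 1)) {p : ℕ} (hcd : Cond 2 p) : Gen p ↥(Cfsg.Lie.Sz F (2 ^ (m + 1))) := by
  have hp : Fact p.Prime := ⟨hcd.p_prime⟩
  have hs : IsSimpleGroup ↥(Cfsg.Lie.Sz F (2 ^ (m + 1))) := Cfsg.Agent.S1162.result hm hc
  have hR : IsCyclic (F ≃+* F) := LieRecognition.FieldSemilinear.isCyclic_ringAut F
  have hD := sz_data hm hc (p := p) hcd.p_ne_two
  have h7 : 7 ≤ p := by
    rcases hcd.big with h | h
    · exact h
    · exact absurd rfl h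
  refine gen_of_cyclic hF hcd (sz_na hm hc) ?_ hD.cyc (cyclic_out _ hD.aut) (by omega) (by omega)
  refine Or.inr (Or.inr (Or.inr (Or.inr (Or.inr (Or.inr (Or.inr (Or.inr (Or.inl ⟨rfl, ?_⟩))))))))
  exact ⟨F, inferInstance, inferInstance, m, hm, hc, ⟨MulEquiv.refl _⟩⟩

theorem row_sz (hF : FieldRow.{0}) {G : Type u} [Group G] [Finite G] {p : ℕ} (hcd : Cond 2 p)
    (h : Lie.IsoSuzuki G) : Gen p G := by
  obtain ⟨F, _, _, m, hm, hc, ⟨e⟩⟩ := h
  exact (gen_sz hF hm hc hcd).congr e.symm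

/-- **The row of the small Ree groups** -/
theorem gen_ree (hF : FieldRow.{0}) {K : Type} [Field K] [Fintype K] {m : ℕ} (hm : 1 ≤ m)
    (hK : Fintype.card K = 3 ^ (2 * m + 1)) {p : ℕ} (hcd : Cond 3 p) : Gen p ↥(Cfsg.Lie.twistedG2 K (3 ^ m)) := by
  have hp : Fact p.Prime := ⟨hcd.p_prime⟩
  have hs : IsSimpleGroup ↥(Cfsg.Lie.twistedG2 K (3 ^ m)) := (Cfsg.Agent.S1073.result hm hK).1
  have hR : IsCyclic (K ≃+* K) := LieRecognition.FieldSemilinear.isCyclic_ringAut K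
  have h3 := hcd.p_ne_r
  have h5 : 5 ≤ p := by
    have h2 := hcd.three_le
    have h4 : p ≠ 4 := by
      rintro rfl
      exact absurd hcd.p_prime (by norm_num)
    omega
  have hD := ree_data hm hK (p := p) h5
  refine gen_of_cyclic hF hcd (ree_na hm hK) ?_ hD.cyc (cyclic_out _ hD.aut) (by omega) ?_
  · refine Or.inr (Or.inr (Or.inr (Or.inr (Or.inr (Or.inr (Or.inr (Or.inr (Or.inr (Or.inr ⟨rfl, ?_⟩)))))))))
    exact ⟨K, inferInstance, inferInstance, m, hm, hK, ⟨MulEquiv.refl _⟩⟩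
  · rintro ⟨-, F, _, _, hF32, ⟨e⟩⟩
    have h1 := (Cfsg.Agent.S1163.result (F := F) (m := 2) (by norm_num) (by rw [hF32]; norm_num)).1
    have h2 := Cfsg.Agent.S1069.result hK
    have h6 : Nat.card ↥(Cfsg.Lie.twistedG2 K (3 ^ m)) = Nat.card ↥(Cfsg.Lie.Sz F (2 ^ (2 + 1))) :=
      Nat.card_congr e.toEquiv
    have h8 : (3 : ℕ) ∣ (3 ^ (2 * m + 1)) ^ 3 := dvd_pow (dvd_pow_self 3 (by omega)) (by norm_num)
    have h7 : 3 ∣ Nat.card ↥(Cfsg.Lie.twistedG2 K (3 ^ m)) := by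
      rw [h2]
      exact (h8.mul_right _).mul_right _
    rw [h6, h1] at h7
    norm_num at h7

theorem row_ree (hF : FieldRow.{0}) {G : Type u} [Group G] [Finite G] {p : ℕ} (hcd : Cond 3 p)
    (h : Lie.IsoRee G) : Gen p G := by
  obtain ⟨K, _, _, m, hm, hK, ⟨e⟩⟩ := h
  exact (gen_ree hF hm hK hcd).congr e.symm

end Cfsg.Agent.H240.GenTwF
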