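import Cfsg.Agent.H240.GenTwF.TwFFix
import Cfsg.Agent.H240.GenTwF.Outer
import Cfsg.Agent.H240.GenTwF.SzRee
import Cfsg.Agent.H240.BalTwF.Dvd

/-!
# S2187, row `²F₄`: preparations for the outer automorphisms (helper240)

* `conj_of_emb`, `inner_congr`, `map_XZ`, `out_cyclic`, `gam_LO`.
-/

set_option autoImplicit false
set_option linter.unusedSectionVars false
set_option linter.unusedVariables false

namespace Cfsg.Agent.H240.GenTwF

open Cfsg Subgroup Cfsg.Lie Cfsg.Agent.H818.Gen Cfsg.Agent.H818.StrP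
open Cfsg.Agent.H967.CopMat (Fx card_Fx)
open Cfsg.Agent.ChevalleyStructure.TwF4.TwistedFix (exists_rln Rln)
open Cfsg.Agent.KFacts.TwF4 Cfsg.Agent.KFacts.TwF4.Inv Cfsg.Agent.KFacts.TwF4.Arc
open Cfsg.Agent.CpAutTwF.Cent (M4)
open Cfsg.Agent.CpAutTwF.FieldAut (Fa K2)
open Cfsg.Agent.SplitTwo.RootSysZ Cfsg.Agent.KFacts.TwF4.Perf Cfsg.Agent.H496.TwEight.HOFacts
open Cfsg.Agent.SplitTwo Cfsg.Agent.SplitTwo.ZS Cfsg.Agent.TitsThree.RankTwoZ
open Cfsg.Agent.KFacts.TwF4.Irr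
open Cfsg.Agent.H496.TwFRad.Levi Cfsg.Agent.H496.SpTwF.Sq Cfsg.Agent.H772.TF
open Cfsg.Agent.CpAutTwF.Pair Cfsg.Agent.CpAutTwF.Cent

universe u

section abs

/-- conjugation into `L M` inside the fixed points -/
theorem conj_of_emb {H G : Type*} [Group H] [Finite H] [Group G] {p : ℕ} [hp : Fact p.Prime] (f : H →* G)
    (hf : Function.Injective f) {L₀ M₀ : Subgroup H} (h : PairD p L₀ M₀) {L M : Subgroup G} (hL : ∀ l ∈ L₀, f l ∈ L)
    (hM : ∀ x ∈ M₀, f x ∈ M) {A : Subgroup G} (hA : IsPGroup p A) (hAC : A ≤ f.range) :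
    ∃ g ∈ f.range, ∀ a ∈ A, ∃ l ∈ L, ∃ m ∈ M, g * a * g⁻¹ = l * m := by
  obtain ⟨g, hg⟩ := h.exists_conj (hA.comap_of_injective f hf)
  refine ⟨f g, ⟨g, rfl⟩, fun a ha => ?_⟩
  obtain ⟨b, rfl⟩ := hAC ha
  obtain ⟨l, hl, m, hm, h1⟩ := hg b ha
  refine ⟨f l, hL l hl, f m, hM m hm, ?_⟩
  rw [← map_inv, ← map_mul, ← map_mul, ← map_mul, h1]

/-- the theorem for inner automorphisms is invariant under isomorphisms -/
theorem inner_congr {X Y : Type*} [Group X] [Group Y] {p : ℕ} (e : X ≃* Y)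
    (h : ∀ E : Subgroup (MulAut X), IsElementaryAbelian p E → p ^ 2 ≤ Nat.card E → E ≤ Inn X → Gam p E = ⊤) :
    ∀ E : Subgroup (MulAut Y), IsElementaryAbelian p E → p ^ 2 ≤ Nat.card E → E ≤ Inn Y → Gam p E = ⊤ := by
  intro E hE hc hI
  have h1 := h (E.map (MulAut.congr e.symm).toMonoidHom) ?_ ?_ ?_
  · have h2 := map_Gam (p := p) e.symm E
    rw [h1] at h2
    rw [eq_top_iff]
    intro x _
    have h3 : e.symm x ∈ (Gam p E).map e.symm.toMonoidHom := by rw [h2]; exact mem_top _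
    obtain ⟨y, hy, hyx⟩ := h3
    have : y = x := e.symm.injective hyx
    rwa [← this]
  · refine ⟨⟨⟨?_⟩⟩, ?_⟩
    · rintro ⟨_, a, ha, rfl⟩ ⟨_, b, hb, rfl⟩
      have := congrArg (fun z : ↥E => (z : MulAut Y)) (hE.1.1.1 ⟨a, ha⟩ ⟨b, hb⟩)
      refine Subtype.ext ?_
      show (MulAut.congr e.symm) a * (MulAut.congr e.symm) b = (MulAut.congr e.symm) b * (MulAut.congr e.symm) a
      rw [← map_mul, ← map_mul]
      exact congrArg _ this
    · rintro _ ⟨a, ha, rfl⟩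
      rw [← map_pow, hE.2 a ha, map_one]
  · rw [Nat.card_congr (E.equivMapOfInjective _ (MulAut.congr e.symm).injective).toEquiv.symm]
    exact hc
  · rintro _ ⟨a, ha, rfl⟩
    obtain ⟨y, rfl⟩ := hI ha
    refine ⟨e.symm y, ?_⟩
    ext x
    show e.symm y * x * (e.symm y)⁻¹ = e.symm (y * e.symm.symm x * y⁻¹)
    rw [map_mul, map_mul, map_inv, MulEquiv.symm_symm, e.symm_apply_apply]

end abs

section sys

variable {F₀ F : Type*} [Field F₀] [Field F] {σ₀ : F₀ →+* F₀} {σ : F →+* F} {H G : Type*} [Group H] [Group G]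
  (S₀ : Full σ₀ H) (S : Full σ G)

theorem map_XZ (f : H →* G) (ι : F₀ → F) (ho : ∀ a t, f (S₀.o a t) = S.o a (ι t))
    (he : ∀ a p u, f (S₀.e a p u) = S.e a (ι p) (ι u)) (k : ℤ) : S₀.XZ k ≤ (S.XZ k).comap f := by
  intro x hx
  rw [mem_comap]
  obtain ⟨a, h | h⟩ := Int.even_or_odd' k
  · rw [h] at hx ⊢
    obtain ⟨p, u, rfl⟩ := (S₀.mem_XZ_even a x).1 hx
    rw [he]
    exact S.e_mem a _ _
  · rw [h] at hx ⊢
    obtain ⟨t, rfl⟩ := (S₀.mem_XZ_odd a x).1 hx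
    rw [ho]
    exact S.o_mem a _

end sys

section model

variable {K : Type} [Field K] [Fintype K] {m : ℕ} {p : ℕ} [hp : Fact p.Prime]

/-- the field automorphisms -/
noncomputable def fldHom (K : Type) [Field K] [Fintype K] (m : ℕ) : (K ≃+* K) →* MulAut ↥(twistedF4 K (2 ^ m)) where
  toFun τ := S2128.fld τ (2 ^ m)
  map_one' := Cfsg.Agent.H628.ZTwF4Out.fldF_one
  map_mul' τ ρ := Cfsg.Agent.H71.FldAut.fldF_mul τ ρ (2 ^ m)

theorem out_cyclic (hm : 1 ≤ m) (hK : Fintype.card K = 2 ^ (2 * m + 1)) :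
    IsCyclic (MulAut ↥(twistedF4 K (2 ^ m)) ⧸ Inn ↥(twistedF4 K (2 ^ m))) := by
  have : IsCyclic (K ≃+* K) := LieRecognition.FieldSemilinear.isCyclic_ringAut K
  exact cyclic_out (fldHom K m) fun ψ => Cfsg.Agent.H71.FldAut.twF4_aut hm hK ψ

end model

section LO

variable {F : Type} [Field F] {σ : F →+* F} {G : Type} [Group G] (S : Full σ G)
variable [Finite F] [Finite G] {p : ℕ} [hp : Fact p.Prime]

/-- **`LO ≅ SL₂(q)`** -/
theorem gam_LO (hFR : FieldRow.{0}) (hcd : Cond 2 p) (hF : ∃ c : Fˣ, c ≠ 1) (hR : S.R.p = 2) (h4 : 4 ≤ Nat.card F)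
    (hnq : ¬ p ∣ Nat.card F - 1) {L' : Type} [Group L'] [Finite L'] (e : ↥S.LO ≃* L') {E' : Subgroup (MulAut L')}
    (hE : IsElementaryAbelian p E') (hc : p ^ 2 ≤ Nat.card E') (hrel : (Inn L').relIndex E' ≤ p) : Gam p E' = ⊤ := by
  have hc2 : CharP F 2 := CharTwo.of_one_ne_zero_of_two_eq_zero one_ne_zero S.two
  have hfF : Fintype F := Fintype.ofFinite F
  have h7 : 7 ≤ p := by
    rcases hcd.big with h | h
    · exact h
    · exact absurd rfl h
  have hs := Cfsg.Agent.H240.BalTwF.simple_LO S h4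
  have hs' : IsSimpleGroup L' := (MulEquiv.isSimpleGroup_congr e).1 hs
  obtain ⟨e1⟩ := Cfsg.Agent.H240.BalTwF.nonempty_LO S
  obtain ⟨e2⟩ := Cfsg.Agent.WeakTI.PslTwo.nonempty_equiv (F := F)
  have hna : ¬ IsMulCommutative L' := by
    intro h
    have h1 : ∀ x y : S.LO, x * y = y * x := fun x y => e.injective (by
      rw [map_mul, map_mul]; exact h.1.1 _ _)
    have h2 := congrArg Subtype.val (h1 ⟨e3 S, e3_mem S⟩ ⟨S.n1, S.n1_mem_LO⟩)
    have h7 : S.n1 * e3 S = e3 S * S.n1 := h2.symm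
    have h8 := n1_e3 S
    rw [h7, mul_inv_cancel_right] at h8
    apply e3_ne S
    have h9 : e3 S * e3 S = 1 := by nth_rw 2 [h8]; exact mul_inv_cancel _
    have h10 := e3_cube S
    rwa [h9, one_mul] at h10
  have hLie : IsLieTypeChar 2 L' := by
    left
    exact ⟨F, inferInstance, hfF, hc2, 2, le_rfl, fun _ => by rw [← Nat.card_eq_fintype_card]; exact h4,
      ⟨e.symm.trans (e1.trans e2)⟩⟩
  have hcyc : ∀ P : Sylow p L', IsCyclic ↥(P : Subgroup L') := by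
    intro P
    have h1 : IsPGroup p (((P : Subgroup L').map e.symm.toMonoidHom).map S.LO.subtype) := (P.2.map _).map _
    have h2 : IsCyclic (((P : Subgroup L').map e.symm.toMonoidHom).map S.LO.subtype) :=
      H42.Tw.cyc S hF hR (by omega) hnq (j := 1) _ (map_subtype_le _) h1
    have h3 := ((((P : Subgroup L').map e.symm.toMonoidHom).equivMapOfInjective S.LO.subtype
      S.LO.subtype_injective)).isCyclic.2 h2
    exact ((P : Subgroup L').equivMapOfInjective e.symm.toMonoidHom e.symm.injective).isCyclic.2 h3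
  exact Gam_of_cyclic hFR hcd hna hLie hcyc (by omega) (by omega) hE hc hrel

end LO

end Cfsg.Agent.H240.GenTwF
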