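import Cfsg.Agent.H240.GenTwF.TwFSys
import Cfsg.Agent.H270.StrP.TwFFF
import Cfsg.Agent.H628.BalTwF4

/-!
# S2187, row `²F₄`: the fixed points of a field automorphism, with root elements (helper240)

* `exists_emb` : the embedding `²F₄(q₀) → ²F₄(q)` with image `C(φ)`, mapping root elements to root elements.
-/

set_option autoImplicit false
set_option linter.unusedSectionVars false
set_option linter.unusedVariables false

namespace Cfsg.Agent.H240.GenTwF

open Cfsg Subgroup Cfsg.Lie Cfsg.Agent.ChevStructure.FieldMap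
open Cfsg.Agent.H967.CopMat Cfsg.Agent.H967.CopSz Cfsg.Agent.H967.CopFix
open Cfsg.Agent.ChevalleyStructure.TwF4.TwistedFix (exists_rln Rln)
open Cfsg.Agent.KFacts.TwF4.Inst
open Cfsg.Agent.ChevalleyStructure.TwF4.Rel (X coe_X)

variable {K : Type*} [Field K] [Fintype K] {m : ℕ}

theorem map_X (σ : K ≃+* K) [CharP K 2] [CharP ↥(Fx σ) 2] (r : ℕ) (t : ↥(Fx σ)) :
    Matrix.GeneralLinearGroup.map (n := chevF4.Idx) (Fx σ).subtype (X r t) = X r (t : K) := by
  apply Units.ext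
  rw [coe_X]
  show ((X r t : GL chevF4.Idx ↥(Fx σ)) : Matrix chevF4.Idx chevF4.Idx ↥(Fx σ)).map (Fx σ).subtype = _
  rw [coe_X]
  exact x_map chevF4 (Fx σ).subtype r t

/-- **the embedding `²F₄(q₀) → ²F₄(q)`** -/
theorem exists_emb (hK : Fintype.card K = 2 ^ (2 * m + 1)) [CharP K 2] (σ : K ≃+* K) [CharP ↥(Fx σ) 2] {m₀ j : ℕ}
    (hE : Nat.card ↥(Fx σ) = 2 ^ (2 * m₀ + 1)) (hj : m = m₀ + j * (2 * m₀ + 1)) {φ : K →+* K} (hφ : Rln φ (2 ^ m))
    {φ₀ : ↥(Fx σ) →+* ↥(Fx σ)} (hφ₀ : Rln φ₀ (2 ^ m₀)) :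
    ∃ f : ↥(twistedF4 ↥(Fx σ) (2 ^ m₀)) →* ↥(twistedF4 K (2 ^ m)), Function.Injective f ∧
      (∀ g, S2128.fld σ (2 ^ m) g = g ↔ g ∈ f.range) ∧ (∀ a t, f (ro hφ₀ a t) = ro hφ a (t : K)) ∧
      ∀ a p u, f (re hφ₀ a p u) = re hφ a (p : K) (u : K) := by
  have hfinE : Fintype ↥(Fx σ) := Fintype.ofFinite _
  have hE' : Fintype.card ↥(Fx σ) = 2 ^ (2 * m₀ + 1) := by rw [← Nat.card_eq_fintype_card, hE]
  have hpow : ∀ x : ↥(Fx σ), x ^ (2 ^ m) = x ^ (2 ^ m₀) := fun x => pow_eq hE hj x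
  have heq : twistedF4 ↥(Fx σ) (2 ^ m) = twistedF4 ↥(Fx σ) (2 ^ m₀) := twistedF4_congr hpow
  let f : ↥(twistedF4 ↥(Fx σ) (2 ^ m₀)) →* ↥(twistedF4 K (2 ^ m)) :=
    { toFun := fun g => ⟨Matrix.GeneralLinearGroup.map (Fx σ).subtype g.1,
        words_f4 (Fx σ).subtype (2 ^ m) ⟨g.1, by rw [heq]; exact g.2, rfl⟩⟩
      map_one' := Subtype.ext (map_one _)
      map_mul' := fun a b => Subtype.ext (map_mul _ _ _) }
  have hf : Function.Injective f := by
    intro a b hab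
    exact Subtype.ext (map_injective (Fx σ).subtype (congrArg Subtype.val hab))
  have hphi : ∀ t : ↥(Fx σ), ((φ₀ t : ↥(Fx σ)) : K) = φ (t : K) := by
    intro t
    rw [hφ₀.phi, hφ.phi, ← hpow]
    rfl
  have hfix : ∀ g, S2128.fld σ (2 ^ m) g = fieldAut (stab_f4 (K := K) (2 ^ m)) σ g := by
    intro g
    apply Subtype.ext
    apply Units.ext
    rfl
  refine ⟨f, hf, ?_, ?_, ?_⟩
  · obtain ⟨f', hf', hfix'⟩ := H270.StrP.tf4_fixed hK σ hE hj
    have hle : f.range ≤ f'.range := by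
      rintro _ ⟨g, rfl⟩
      rw [← hfix']
      exact Subtype.ext (map_fixed σ g.1)
    have hfin : Finite ↥(twistedF4 K (2 ^ m)) := inferInstance
    have h1 : f.range = f'.range := by
      refine Subgroup.eq_of_le_of_card_ge hle ?_
      rw [← Nat.card_congr (MonoidHom.ofInjective hf).toEquiv, ← Nat.card_congr (MonoidHom.ofInjective hf').toEquiv]
    intro g
    rw [h1, ← hfix', hfix]
  · intro a t
    apply Subtype.ext
    show Matrix.GeneralLinearGroup.map (Fx σ).subtype (X (oA a) t * X (oB a) (φ₀ t)) =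
      X (oA a) (t : K) * X (oB a) (φ (t : K))
    rw [map_mul, map_X, map_X, hphi]
  · intro a p u
    apply Subtype.ext
    show Matrix.GeneralLinearGroup.map (Fx σ).subtype
        (X (eA a) p * X (eB a) (φ₀ p) * X (eC a) (p * φ₀ p + u) * X (eD a) (φ₀ u)) =
      X (eA a) (p : K) * X (eB a) (φ (p : K)) * X (eC a) ((p : K) * φ (p : K) + (u : K)) * X (eD a) (φ (u : K))
    rw [map_mul, map_mul, map_mul, map_X, map_X, map_X, map_X, hphi, hphi, ← hphi p]
    rfl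

end Cfsg.Agent.H240.GenTwF
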