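import Cfsg.Agent.H240.GenTwF.Pair
import Cfsg.Agent.H240.BalTwF.Sz
import Cfsg.Agent.H240.BalTwF.Plus
import Cfsg.Agent.H496.SpTwF.Row
import Cfsg.Agent.H42.Tw.F4Asm
import Cfsg.Agent.S1072

/-!
# S2187, row `²F₄`: the pairs `L₄ × M₄`, `LO × M₅`; inner automorphisms (helper240)

* `pair_sz`, `pair_plus` : the pairs `L₄ × M₄` for `p ∣ q - 1` or `p ∣ q² + 1`, `LO × M₅` for `p ∣ q + 1`;
* `inner_twF4` : **`Gam p E = ⊤` for `E ≤ Inn ²F₄(q)`**, `p ≥ 5`.
-/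

set_option autoImplicit false
set_option linter.unusedSectionVars false
set_option linter.unusedVariables false

namespace Cfsg.Agent.H240.GenTwF

open Cfsg Subgroup Cfsg.Agent.H818.StrP Cfsg.Agent.H818.Gen
open Cfsg.Agent.SplitTwo Cfsg.Agent.SplitTwo.ZS Cfsg.Agent.TitsThree.RankTwoZ Cfsg.Agent.SplitTwo.RootSysZ
open Cfsg.Agent.KFacts.TwF4 Cfsg.Agent.KFacts.TwF4.Arc Cfsg.Agent.KFacts.TwF4.Irr Cfsg.Agent.KFacts.TwF4.Perf
open Cfsg.Agent.KFacts.TwF4.Inv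
open Cfsg.Agent.CpAutTwF.Pair Cfsg.Agent.CpAutTwF.Cent
open Cfsg.Agent.H496.TwFRad.Levi Cfsg.Agent.H496.SpTwF.Sq
open Cfsg.Agent.H772.TF Cfsg.Agent.H496.TwEight.HOFacts
open Cfsg.Agent.H240.BalTwF (fact_L4 card_M4 card_M5 LO_inf_M5 unit_of_card)

universe u

section sys

variable {F : Type*} [Field F] {σ : F →+* F} {G : Type u} [Group G] (S : Full σ G)
variable [Finite F] [Finite G] {m : ℕ} (hm : 1 ≤ m) (hFc : Nat.card F = 2 ^ (2 * m + 1))
variable (hG : Nat.card G = H42.Tw.ord (Nat.card F)) {p : ℕ} [hp : Fact p.Prime]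

include hm hFc hG

theorem pair_sz (hp2 : p ≠ 2) (hpq : p ∣ Nat.card F - 1 ∨ p ∣ Nat.card F ^ 2 + 1) : PairD p (L4 S) (M4 S) where
  comm := fun l hl m hm => L4_comm_M4 S hl hm
  inf := fun x h1 h2 => inf_one S (unit_of_card hm hFc) h1 h2
  card := card_M4 S
  fact := (fact_L4 S hm hFc hG hp2 hpq).le

theorem four_le : 4 ≤ Nat.card F := by
  rw [hFc]
  calc 4 = 2 ^ 2 := rfl
    _ ≤ 2 ^ (2 * m + 1) := Nat.pow_le_pow_right (by norm_num) (by omega)

theorem pair_plus (hp5 : 5 ≤ p) (hpq : p ∣ Nat.card F + 1) : PairD p S.LO (M5 S) where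
  comm := fun l hl m hm => comm_M5 S hl hm
  inf := fun x h1 h2 => LO_inf_M5 S (four_le hm hFc hG) h1 h2
  card := card_M5 S
  fact := by
    have h4 := four_le hm hFc hG
    rw [hG, H42.Tw.fact_plus hp5 (by omega) hpq]
    refine Nat.mul_le_mul_left 2 ?_
    have hd : Nat.card F + 1 ∣ Nat.card S.LO := by
      rw [Cfsg.Agent.H42.Deg.F4.card_LO]
      exact dvd_mul_left _ _
    exact (Nat.factorization_le_iff_dvd (by omega) Nat.card_pos.ne').2 hd p

/-- **rank at most two**, `p` divides `q² - 1` or `q² + 1` -/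
theorem rank_sys (hR : S.R.p = 2) (hp5 : 5 ≤ p)
    (hpq : p ∣ Nat.card F - 1 ∨ p ∣ Nat.card F + 1 ∨ p ∣ Nat.card F ^ 2 + 1) {A : Subgroup G}
    (hA : IsElementaryAbelian p A) : Nat.card A ≤ p ^ 2 := by
  have h4 := four_le hm hFc hG
  have hF := unit_of_card (F := F) hm hFc
  rcases hpq with h | h | h
  · exact PreUniq.LowExc.TwF4.rank_of_dvd S hp.out (by omega) rfl (by omega) hG h A hA.1 hA.2
  · have hnq := H42.Tw.not_dvd_sub_one_of_plus hp5 (by omega) h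
    exact (pair_plus S hm hFc hG hp5 h).rank (fun P hP hPp => H42.Tw.cyc S hF hR (by omega) hnq (j := 1) P hP hPp)
      (fun P hP hPp => H42.Tw.cyc S hF hR (by omega) hnq (j := 5) P hP hPp) hA
  · have hnq := H42.Tw.not_dvd_sub_one_of_sq hp5 (by omega) h
    exact (pair_sz S hm hFc hG (by omega) (Or.inr h)).rank
      (fun P hP hPp => H42.Tw.cyc S hF hR (by omega) hnq (j := 0) P hP hPp)
      (fun P hP hPp => H42.Tw.cyc S hF hR (by omega) hnq (j := 4) P hP hPp) hA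

end sys

section model

variable {K : Type} [Field K] [Fintype K] {m : ℕ} {p : ℕ} [hp : Fact p.Prime]

/-- the cases for a noncyclic `p`-subgroup -/
theorem cases_rank (hm : 1 ≤ m) (hK : Fintype.card K = 2 ^ (2 * m + 1)) (hp5 : 5 ≤ p)
    {A : Subgroup ↥(Lie.twistedF4 K (2 ^ m))} (hA : IsPGroup p A) (hA1 : ¬ IsCyclic A) :
    p ∣ Nat.card K - 1 ∨ p ∣ Nat.card K + 1 ∨ p ∣ Nat.card K ^ 2 + 1 := by
  have hch := Cfsg.Agent.ChevalleyStructure.TwF4.Twisted.charP_two hK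
  have hfin := H42.Tw.finite_tw (K := K) (2 ^ m)
  have hcK : Nat.card K = 2 ^ (2 * m + 1) := by rw [Nat.card_eq_fintype_card, hK]
  have h8 : 8 ≤ 2 ^ (2 * m + 1) := by
    calc 8 = 2 ^ 3 := by norm_num
      _ ≤ 2 ^ (2 * m + 1) := Nat.pow_le_pow_right (by norm_num) (by omega)
  have hcard : Nat.card ↥(Lie.twistedF4 K (2 ^ m)) = H42.Tw.ord (Nat.card K) := by
    rw [hcK]; exact Cfsg.Agent.S1068.result hK
  have hd : p ∣ H42.Tw.ord (2 ^ (2 * m + 1)) := by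
    rw [← hcK, ← hcard]
    have h1 : Nontrivial A := by
      by_contra h
      rw [not_nontrivial_iff_subsingleton] at h
      exact hA1 inferInstance
    obtain ⟨n, hn, hc⟩ := (hA.nontrivial_iff_card).1 h1
    exact ((dvd_pow_self p hn.ne').trans (by rw [← hc])).trans (card_subgroup_dvd_card A)
  have hpq : ¬ p ∣ 2 ^ (2 * m + 1) := by
    intro h
    have := (Nat.prime_dvd_prime_iff_eq hp.out Nat.prime_two).1 (hp.out.dvd_of_dvd_pow h)
    omega
  rw [hcK]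
  rcases H42.Tw.cases_ord (by omega) hpq hd with h | h | h | h | h
  · exact Or.inl h
  · exact Or.inr (Or.inl h)
  · exact Or.inr (Or.inr h)
  · exact (hA1 (H42.Tw.cyclic_twF4' hK hp5 (Or.inl h) hA)).elim
  · exact (hA1 (H42.Tw.cyclic_twF4' hK hp5 (Or.inr h) hA)).elim

theorem rank_twF4 (hm : 1 ≤ m) (hK : Fintype.card K = 2 ^ (2 * m + 1)) (hp5 : 5 ≤ p)
    {A : Subgroup ↥(Lie.twistedF4 K (2 ^ m))} (hA : IsElementaryAbelian p A) : Nat.card A ≤ p ^ 2 := by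
  have hch := Cfsg.Agent.ChevalleyStructure.TwF4.Twisted.charP_two hK
  have hfin := H42.Tw.finite_tw (K := K) (2 ^ m)
  have hcK : Nat.card K = 2 ^ (2 * m + 1) := by rw [Nat.card_eq_fintype_card, hK]
  have hcard : Nat.card ↥(Lie.twistedF4 K (2 ^ m)) = H42.Tw.ord (Nat.card K) := by
    rw [hcK]; exact Cfsg.Agent.S1068.result hK
  by_cases hc : IsCyclic A
  · have h1 := card_le_of_cyclic (p := p) (P := A) fun x => Subtype.ext (hA.2 x x.2)
    have := hp.out.one_lt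
    nlinarith
  obtain ⟨φ, hφ⟩ := Cfsg.Agent.ChevalleyStructure.TwF4.TwistedFix.exists_rln hK
  exact rank_sys (Cfsg.Agent.KFacts.TwF4.Inst.full hK hφ) hm hcK hcard rfl hp5 (cases_rank hm hK hp5 (elab_isPGroup hA) hc) hA

/-- **inner automorphisms of `²F₄(q)`, `q ≥ 8`** -/
theorem inner_twF4 (hm : 1 ≤ m) (hK : Fintype.card K = 2 ^ (2 * m + 1)) (hp5 : 5 ≤ p)
    {E : Subgroup (MulAut ↥(Lie.twistedF4 K (2 ^ m)))} (hE : IsElementaryAbelian p E) (hc : p ^ 2 ≤ Nat.card E)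
    (hI : E ≤ Inn _) : Gam p E = ⊤ := by
  have hch := Cfsg.Agent.ChevalleyStructure.TwF4.Twisted.charP_two hK
  have hfin := H42.Tw.finite_tw (K := K) (2 ^ m)
  obtain ⟨hs, hna⟩ := Cfsg.Agent.S1072.result hm hK
  have hna' : ¬ IsMulCommutative ↥(Lie.twistedF4 K (2 ^ m)) := hna
  have hX : Lie.Iso2F4 ↥(Lie.twistedF4 K (2 ^ m)) := ⟨K, inferInstance, inferInstance, m, hm, hK, ⟨MulEquiv.refl _⟩⟩
  rcases H496.SpTwF.RowFin.row_2F4 hX (p := p) (by omega) with h | h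
  · exact (not_cyclic_of_sq hE hc (cyclic_inn (center_bot hna') h (elab_isPGroup hE) hI)).elim
  · refine Gam_inner hna' ?_ (fun A hA => rank_twF4 hm hK hp5 hA) h hE hc hI
    intro P hP a ha b hb
    exact congrArg Subtype.val ((H42.Tw.abelian_twF4 hp5 hP).1.1 (⟨a, ha⟩ : P) ⟨b, hb⟩)

end model

end Cfsg.Agent.H240.GenTwF
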