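import Cfsg.Agent.H240.GenTwF.TwFEmb

/-!
# S2187, row `²F₄` (helper240)

* `row_tf4` : **`Gen p G` for `G ≅ ²F₄(q)`**, `q ≥ 8`, `p ≥ 7`.
-/

set_option autoImplicit false
set_option linter.unusedSectionVars false
set_option linter.unusedVariables false

namespace Cfsg.Agent.H240.GenTwF

open Cfsg Subgroup Cfsg.Lie Cfsg.Agent.H818.Gen Cfsg.Agent.H818.StrP
open Cfsg.Agent.H967.CopMat (Fx card_Fx)
open Cfsg.Agent.ChevalleyStructure.TwF4.TwistedFix (exists_rln Rln)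
open Cfsg.Agent.KFacts.TwF4 Cfsg.Agent.KFacts.TwF4.Inv Cfsg.Agent.KFacts.TwF4.Arc
open Cfsg.Agent.CpAutTwF.Cent (M4)
open Cfsg.Agent.CpAutTwF.FieldAut (Fa K2)
open Cfsg.Agent.SplitTwo.RootSysZ Cfsg.Agent.KFacts.TwF4.Perf Cfsg.Agent.H496.TwEight.HOFacts
open Cfsg.Agent.SplitTwo Cfsg.Agent.SplitTwo.ZS Cfsg.Agent.TitsThree.RankTwoZ
open Cfsg.Agent.KFacts.TwF4.Irr
open Cfsg.Agent.H496.TwFRad.Levi Cfsg.Agent.H496.SpTwF.Sq Cfsg.Agent.H772.TF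
open Cfsg.Agent.CpAutTwF.Pair Cfsg.Agent.CpAutTwF.Cent

universe u

section sys

variable {F : Type} [Field F] {σ : F →+* F} {G : Type} [Group G] (S : Full σ G)
variable [Finite F] [Finite G] {p : ℕ} [hp : Fact p.Prime]

theorem iso_M4 : Nonempty (↥(L4 S) ≃* ↥(M4 S)) :=
  ⟨((L4 S).equivMapOfInjective (S.ck 2).toMonoidHom (S.ck 2).injective).trans (MulEquiv.subgroupCongr (map_L4 S))⟩

theorem iso_M5 : Nonempty (↥S.LO ≃* ↥(M5 S)) :=
  ⟨((S.LO).equivMapOfInjective (S.ck 2).toMonoidHom (S.ck 2).injective).trans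
    (MulEquiv.subgroupCongr (Cfsg.Agent.H240.BalTwF.map_LO S))⟩

theorem suz_L4 {k : ℕ} (hk : 2 ≤ k) (hF : Nat.card F = 2 ^ k) : IsoSuzuki ↥(L4 S) := by
  have h1 := H84.GaussTwF4.LL_iso S hk hF
  rw [H84.GaussTwF4.LJ_eq] at h1
  have h2 : H84.GaussTwF4.LL S = L4 S := sup_comm _ _
  rwa [h2] at h1

theorem gen_L4 (hFR : FieldRow.{0}) (hcd : Cond 2 p) {k : ℕ} (hk : 2 ≤ k) (hF : Nat.card F = 2 ^ k) {L' : Type} [Group L']
    [Finite L'] (e : ↥(L4 S) ≃* L') : Gen p L' := by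
  obtain ⟨F', i1, i2, n, hn, hF', ⟨f⟩⟩ := suz_L4 S hk hF
  exact row_sz hFR hcd ⟨F', i1, i2, n, hn, hF', ⟨e.symm.trans f⟩⟩

variable {τ : F →+* F} {ψ : MulAut G}

/-- the root groups are invariant under field automorphisms -/
theorem Fa_sup (H : Fa S τ ψ) (i j : ℤ) : ∀ x ∈ S.XZ i ⊔ S.XZ j, ψ x ∈ S.XZ i ⊔ S.XZ j := by
  have h : S.XZ i ⊔ S.XZ j ≤ (S.XZ i ⊔ S.XZ j).comap ψ.toMonoidHom :=
    sup_le (fun x hx => mem_sup_left (H.X_le i x hx)) fun x hx => mem_sup_right (H.X_le j x hx)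
  exact fun x hx => h hx

theorem K2_le (H : Fa S τ ψ) : K2 S ≤ fixedSubgroup ψ := by
  unfold K2
  rw [closure_le]
  have h01 : ∀ t : F, t = 0 ∨ t = 1 → τ t = t := by
    rintro t (rfl | rfl)
    · exact map_zero τ
    · exact map_one τ
  rintro x (⟨a, t, ht, rfl⟩ | ⟨a, p, u, hp, hu, rfl⟩)
  · show ψ (S.o a t) = S.o a t
    rw [H.o, h01 t ht]
  · show ψ (S.e a p u) = S.e a p u
    rw [H.e, h01 p hp, h01 u hu]

end sys

section arith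

/-- `q ≡ q₀` modulo `p` for `q = q₀ ^ p` -/
theorem rank_cases_sub {p q₀ q : ℕ} [hp : Fact p.Prime] (h1 : 1 ≤ q₀) (hq : q = q₀ ^ p)
    (h : p ∣ q - 1 ∨ p ∣ q + 1 ∨ p ∣ q ^ 2 + 1) :
    (p ∣ q - 1 → p ∣ q₀ - 1) ∧ (p ∣ q + 1 → p ∣ q₀ + 1) ∧ (p ∣ q ^ 2 + 1 → p ∣ q₀ ^ 2 + 1) := by
  have h2 : (q : ZMod p) = (q₀ : ZMod p) := by
    rw [hq, Nat.cast_pow, ZMod.pow_card]
  have hq1 : 1 ≤ q := by rw [hq]; exact Nat.one_le_pow _ _ (by omega)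
  refine ⟨fun h => ?_, fun h => ?_, fun h => ?_⟩
  · rw [← ZMod.natCast_eq_zero_iff] at h ⊢
    rw [Nat.cast_sub hq1] at h
    rw [Nat.cast_sub h1, ← h2]
    exact h
  · rw [← ZMod.natCast_eq_zero_iff] at h ⊢
    push_cast at h ⊢
    rw [← h2]
    exact h
  · rw [← ZMod.natCast_eq_zero_iff] at h ⊢
    push_cast at h ⊢
    rw [← h2]
    exact h

end arith

section model

variable {K : Type} [Field K] [Fintype K] {m : ℕ} {p : ℕ} [hp : Fact p.Prime]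

/-- **the case of a field automorphism** -/
theorem outer_std (hFR : FieldRow.{0}) (hcd : Cond 2 p) (hm : 1 ≤ m) (hK : Fintype.card K = 2 ^ (2 * m + 1))
    (hr : p ∣ Nat.card K - 1 ∨ p ∣ Nat.card K + 1 ∨ p ∣ Nat.card K ^ 2 + 1)
    {E : Subgroup (MulAut ↥(twistedF4 K (2 ^ m)))} (hE : IsElementaryAbelian p E) (hc : p ^ 2 ≤ Nat.card E)
    (ρ : K ≃+* K) {j s : ℕ} (hms : m = (2 * j + 1) * s + j) (hFx : Nat.card ↥(Fx ρ) = 2 ^ (2 * j + 1))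
    (hψ : S2128.fld ρ (2 ^ m) ∈ E) (hψ' : S2128.fld ρ (2 ^ m) ∉ Inn _) : Gam p E = ⊤ := by
  have h7 : 7 ≤ p := by
    rcases hcd.big with h | h
    · exact h
    · exact absurd rfl h
  have hch := Cfsg.Agent.ChevalleyStructure.TwF4.Twisted.charP_two hK
  have hfin := H42.Tw.finite_tw (K := K) (2 ^ m)
  obtain ⟨hs, hna⟩ := Cfsg.Agent.S1072.result hm hK
  have hna' : ¬ IsMulCommutative ↥(Lie.twistedF4 K (2 ^ m)) := hna
  have hz : center ↥(twistedF4 K (2 ^ m)) = ⊥ := center_bot hna'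
  -- `ρ` has order `p`
  have h1 : ρ ^ p = 1 := by
    have h2 : fldHom K m (ρ ^ p) = fldHom K m 1 := by
      rw [map_pow, map_one]
      exact hE.2 _ hψ
    refine Cfsg.Agent.H240.BalTwF.tau_uniq hK (a := 1) (b := 1) ?_
    have h3 : S2128.fld (ρ ^ p) (2 ^ m) = S2128.fld (1 : K ≃+* K) (2 ^ m) := h2
    rw [h3]
  have hρ1 : ρ ≠ 1 := by
    rintro rfl
    apply hψ'
    rw [Cfsg.Agent.H628.ZTwF4Out.fldF_one]
    exact one_mem _
  have hoρ : orderOf ρ = p := orderOf_eq_prime h1 hρ1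
  have hcF := card_Fx ρ
  rw [hoρ, hFx] at hcF
  -- the small field
  obtain ⟨hr1, hr2, hr3⟩ := rank_cases_sub (p := p) (q₀ := 2 ^ (2 * j + 1)) Nat.one_le_two_pow hcF hr
  have hj : 1 ≤ j := by
    by_contra hj0
    have hj0' : j = 0 := by omega
    rw [hj0'] at hr1 hr2 hr3
    rcases hr with h | h | h
    · have := Nat.le_of_dvd (by norm_num) (hr1 h)
      norm_num at this
      omega
    · have := Nat.le_of_dvd (by norm_num) (hr2 h)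
      norm_num at this
      omega
    · have := Nat.le_of_dvd (by norm_num) (hr3 h)
      norm_num at this
      omega
  have hfinE : Fintype ↥(Fx ρ) := Fintype.ofFinite _
  have hK₀ : Fintype.card ↥(Fx ρ) = 2 ^ (2 * j + 1) := by rw [← Nat.card_eq_fintype_card, hFx]
  have hch₀ := Cfsg.Agent.ChevalleyStructure.TwF4.Twisted.charP_two hK₀
  have hfin₀ := H42.Tw.finite_tw (K := ↥(Fx ρ)) (2 ^ j)
  obtain ⟨φ, hφ⟩ := exists_rln hK
  obtain ⟨φ₀, hφ₀⟩ := exists_rln hK₀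
  obtain ⟨f, hf, hfix, ho, he⟩ := exists_emb hK ρ hFx (j := s) (by rw [hms]; ring) hφ hφ₀
  have hcK : Nat.card K = 2 ^ (2 * m + 1) := by rw [Nat.card_eq_fintype_card, hK]
  have hG : Nat.card ↥(twistedF4 K (2 ^ m)) = H42.Tw.ord (Nat.card K) := by
    rw [hcK]; exact Cfsg.Agent.S1068.result hK
  have hG₀ : Nat.card ↥(twistedF4 ↥(Fx ρ) (2 ^ j)) = H42.Tw.ord (Nat.card ↥(Fx ρ)) := by
    rw [hFx]; exact Cfsg.Agent.S1068.result hK₀
  have hrel : (Inn ↥(twistedF4 K (2 ^ m))).relIndex E ≤ p := relIndex_le (out_cyclic hm hK) hE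
  set ψ := S2128.fld ρ (2 ^ m) with hψd
  have hC : fixedSubgroup ψ = f.range := by
    ext g
    exact hfix g
  have e0 : ↥(twistedF4 ↥(Fx ρ) (2 ^ j)) ≃* ↥(fixedSubgroup ψ) :=
    (MonoidHom.ofInjective hf).trans (MulEquiv.subgroupCongr hC.symm)
  have hGC := inner_congr (p := p) e0 fun E' hE' hc' hI => inner_twF4 hj hK₀ (by omega) hE' hc' hI
  have hfG : fixedSubgroup ψ ≤ Gam p E := fix_le_Gam hz hE hc hrel hψ hψ' hGC
  set S := Cfsg.Agent.KFacts.TwF4.Inst.full hK hφ with hS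
  set S₀ := Cfsg.Agent.KFacts.TwF4.Inst.full hK₀ hφ₀ with hS₀
  have hFa : Fa S (ρ : K →+* K) ψ := ⟨fun a t => S2128.fld_ro ρ hφ a t, fun a q u => S2128.fld_re ρ hφ a q u⟩
  have hXZ : ∀ k : ℤ, S₀.XZ k ≤ (S.XZ k).comap f := map_XZ S₀ S f (fun t => (t : K)) ho he
  have hXZ2 : ∀ a b : ℤ, ∀ x ∈ S₀.XZ a ⊔ S₀.XZ b, f x ∈ S.XZ a ⊔ S.XZ b := by
    intro a b
    have h2 : S₀.XZ a ⊔ S₀.XZ b ≤ (S.XZ a ⊔ S.XZ b).comap f :=
      sup_le ((hXZ a).trans (comap_mono le_sup_left)) ((hXZ b).trans (comap_mono le_sup_right))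
    exact fun x hx => h2 hx
  have hA : IsPGroup p (E.comap (MulAut.conj : _ →* MulAut ↥(twistedF4 K (2 ^ m)))) :=
    (elab_isPGroup hE).comap_of_injective _ (conj_injective hz)
  have hAC : E.comap (MulAut.conj : _ →* MulAut ↥(twistedF4 K (2 ^ m))) ≤ f.range := by
    intro x hx
    rw [← hfix]
    exact fixed_of_inner hz hE hψ hx
  -- the final step
  have core : ∀ (L₀ M₀ : Subgroup ↥(twistedF4 ↥(Fx ρ) (2 ^ j))) (L M : Subgroup ↥(twistedF4 K (2 ^ m))),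
      PairD p L₀ M₀ → (∀ l ∈ L₀, f l ∈ L) → (∀ x ∈ M₀, f x ∈ M) → (∀ l ∈ L, ∀ x ∈ M, l * x = x * l) →
      (∀ x ∈ L, ψ x ∈ L) → (∀ x ∈ M, ψ x ∈ M) →
      (∀ L' : Subgroup ↥(twistedF4 K (2 ^ m)), Nonempty (L ≃* L') → ∀ E' : Subgroup (MulAut L'), IsElementaryAbelian p E' →
        p ^ 2 ≤ Nat.card E' → (Inn L').relIndex E' ≤ p → Gam p E' = ⊤) →
      (∀ L' : Subgroup ↥(twistedF4 K (2 ^ m)), Nonempty (M ≃* L') → ∀ E' : Subgroup (MulAut L'), IsElementaryAbelian p E' →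
        p ^ 2 ≤ Nat.card E' → (Inn L').relIndex E' ≤ p → Gam p E' = ⊤) → S.T ≤ L ⊔ M → Gam p E = ⊤ := by
    intro L₀ M₀ L M hP hL hM hcomm hψL hψM hGL hGM hT
    obtain ⟨g, hg, hgA⟩ := conj_of_emb f hf hP hL hM hA hAC
    have hgψ : ψ g = g := (hfix g).2 hg
    have hgG : g ∈ Gam p E := hfG hgψ
    have hL' : L ≤ Gam p E := pair_le_Gam hz hE hc hrel hψ hψ' hcomm hψL hGL hgψ hgG fun a ha => hgA a ha
    have hM' : M ≤ Gam p E := by
      refine pair_le_Gam hz hE hc hrel hψ hψ' (fun x hx l hl => (hcomm l hl x hx).symm) hψM hGM hgψ hgG fun a ha => ?_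
      obtain ⟨l, hl, x, hx, h2⟩ := hgA a ha
      exact ⟨x, hx, l, hl, by rw [h2, hcomm l hl x hx]⟩
    exact eq_top_of_T S (hT.trans (sup_le hL' hM')) ((K2_le S hFa).trans hfG)
  have sz : p ∣ 2 ^ (2 * j + 1) - 1 ∨ p ∣ (2 ^ (2 * j + 1)) ^ 2 + 1 → Gam p E = ⊤ := by
    intro h
    refine core (L4 S₀) (M4 S₀) (L4 S) (M4 S) (pair_sz S₀ hj hFx hG₀ (by omega) (by rw [hFx]; exact h))
      (hXZ2 0 8) (hXZ2 4 12) (fun l hl x hx => L4_comm_M4 S hl hx) (Fa_sup S hFa 0 8) (Fa_sup S hFa 4 12) ?_ ?_ (T_le_sz S)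
    · rintro L' ⟨e⟩ E' hE' hc' -
      exact gen_L4 S hFR hcd (k := 2 * m + 1) (by omega) hcK e E' hE' hc'
    · rintro L' ⟨e⟩ E' hE' hc' -
      obtain ⟨e'⟩ := iso_M4 S
      exact gen_L4 S hFR hcd (k := 2 * m + 1) (by omega) hcK (e'.trans e) E' hE' hc'
  rcases hr with h | h | h
  · exact sz (Or.inl (hr1 h))
  · have h4 : 4 ≤ Nat.card K := by
      rw [hcK]
      calc 4 = 2 ^ 2 := rfl
        _ ≤ 2 ^ (2 * m + 1) := Nat.pow_le_pow_right (by norm_num) (by omega)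
    have hnq := H42.Tw.not_dvd_sub_one_of_plus (p := p) (q := Nat.card K) (by omega) (by omega) h
    refine core S₀.LO (M5 S₀) S.LO (M5 S) (pair_plus S₀ hj hFx hG₀ (by omega) (by rw [hFx]; exact hr2 h))
      (hXZ2 1 9) (hXZ2 5 13) (fun l hl x hx => comm_M5 S hl hx) (Fa_sup S hFa 1 9) (Fa_sup S hFa 5 13) ?_ ?_ (T_le_plus S)
    · rintro L' ⟨e⟩ E' hE' hc' hrel'
      exact gam_LO S hFR hcd (H42.Tw.exists_unit hm hK) rfl h4 hnq e hE' hc' hrel'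
    · rintro L' ⟨e⟩ E' hE' hc' hrel'
      obtain ⟨e'⟩ := iso_M5 S
      exact gam_LO S hFR hcd (H42.Tw.exists_unit hm hK) rfl h4 hnq (e'.trans e) hE' hc' hrel'
  · exact sz (Or.inr (hr3 h))

/-- **outer automorphisms** -/
theorem outer_twF4 (hFR : FieldRow.{0}) (hcd : Cond 2 p) (hm : 1 ≤ m) (hK : Fintype.card K = 2 ^ (2 * m + 1))
    (hr : p ∣ Nat.card K - 1 ∨ p ∣ Nat.card K + 1 ∨ p ∣ Nat.card K ^ 2 + 1)
    {E : Subgroup (MulAut ↥(twistedF4 K (2 ^ m)))} (hE : IsElementaryAbelian p E) (hc : p ^ 2 ≤ Nat.card E)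
    {x : MulAut ↥(twistedF4 K (2 ^ m))} (hx : x ∈ E) (hx' : x ∉ Inn _) : Gam p E = ⊤ := by
  have h2p : Fact (Nat.Prime 2) := ⟨Nat.prime_two⟩
  have hcK : CharP K 2 := Cfsg.Agent.ChevalleyStructure.TwF4.Twisted.charP_two hK
  have hpK : PerfectRing K 2 := inferInstance
  have hfin := H42.Tw.finite_tw (K := K) (2 ^ m)
  have hx1 : x ≠ 1 := by
    rintro rfl
    exact hx' (one_mem _)
  have hxo : orderOf x = p := orderOf_eq_prime (hE.2 x hx) hx1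
  obtain ⟨ρ, j, s, i, δ, hms, hFx, hi, he⟩ := Cfsg.Agent.H628.BalTwF4.exists_std hK hm hp.out hcd.p_ne_two x hxo
    (by rintro ⟨g, hg⟩; exact hx' ⟨g, hg.symm⟩)
  set E₁ : Subgroup (MulAut ↥(twistedF4 K (2 ^ m))) := E.map (MulAut.congr (δ⁻¹ : _ ≃* _)).toMonoidHom with hE₁
  have hcong : ∀ e : MulAut ↥(twistedF4 K (2 ^ m)), MulAut.congr (δ⁻¹ : _ ≃* _) e = δ⁻¹ * e * δ := by
    intro e
    ext y : 1
    show δ⁻¹ (e ((δ⁻¹)⁻¹ y)) = δ⁻¹ (e (δ y))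
    rw [inv_inv]
  have hfe : S2128.fld ρ (2 ^ m) = δ⁻¹ * x ^ i * δ := by rw [he]; group
  have hψ : S2128.fld ρ (2 ^ m) ∈ E₁ := by
    refine ⟨x ^ i, pow_mem hx i, ?_⟩
    show MulAut.congr (δ⁻¹ : _ ≃* _) (x ^ i) = _
    rw [hcong, hfe]
  have hψ' : S2128.fld ρ (2 ^ m) ∉ Inn _ := by
    intro h
    apply hx'
    have h1 : x ^ i ∈ Inn ↥(twistedF4 K (2 ^ m)) := by
      have h2 := (inferInstance : (Inn ↥(twistedF4 K (2 ^ m))).Normal).conj_mem _ h δ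
      rw [hfe] at h2
      have h3 : δ * (δ⁻¹ * x ^ i * δ) * δ⁻¹ = x ^ i := by group
      rwa [h3] at h2
    -- `x` is a power of `x ^ i`
    have h4 : x ∈ zpowers (x ^ i) := by
      have h5 : (orderOf x).Coprime i := by rw [hxo]; exact hi.symm
      have h6 : orderOf (x ^ i) = orderOf x := Nat.Coprime.orderOf_pow h5
      have h7 : zpowers (x ^ i) = zpowers x := by
        refine eq_of_le_of_card_ge (zpowers_le.2 (pow_mem (mem_zpowers x) i)) ?_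
        rw [Nat.card_zpowers, Nat.card_zpowers, h6]
      rw [h7]
      exact mem_zpowers x
    exact (zpowers_le.2 h1) h4
  have hE₁' : IsElementaryAbelian p E₁ := by
    refine ⟨⟨⟨?_⟩⟩, ?_⟩
    · rintro ⟨_, a, ha, rfl⟩ ⟨_, b, hb, rfl⟩
      have := congrArg (fun z : ↥E => (z : MulAut ↥(twistedF4 K (2 ^ m)))) (hE.1.1.1 ⟨a, ha⟩ ⟨b, hb⟩)
      refine Subtype.ext ?_
      show (MulAut.congr (δ⁻¹ : _ ≃* _)) a * (MulAut.congr (δ⁻¹ : _ ≃* _)) b =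
        (MulAut.congr (δ⁻¹ : _ ≃* _)) b * (MulAut.congr (δ⁻¹ : _ ≃* _)) a
      rw [← map_mul, ← map_mul]
      exact congrArg _ this
    · rintro _ ⟨a, ha, rfl⟩
      rw [← map_pow, hE.2 a ha, map_one]
  have hc₁ : p ^ 2 ≤ Nat.card E₁ := by
    rw [Nat.card_congr (E.equivMapOfInjective _ (MulAut.congr (δ⁻¹ : _ ≃* _)).injective).toEquiv.symm]
    exact hc
  have h1 := outer_std hFR hcd hm hK hr hE₁' hc₁ ρ hms hFx hψ hψ'
  have h2 := map_Gam (p := p) (δ⁻¹ : _ ≃* _) E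
  rw [← hE₁, h1] at h2
  rw [eq_top_iff]
  intro y _
  have h3 : δ⁻¹ y ∈ (Gam p E).map (δ⁻¹ : ↥(twistedF4 K (2 ^ m)) ≃* _).toMonoidHom := by rw [h2]; exact mem_top _
  obtain ⟨z, hz, hzy⟩ := h3
  have : z = y := (δ⁻¹ : ↥(twistedF4 K (2 ^ m)) ≃* _).injective hzy
  rwa [← this]

/-- **`Gen p ²F₄(q)`** -/
theorem gen_tf4 (hFR : FieldRow.{0}) (hcd : Cond 2 p) (hm : 1 ≤ m) (hK : Fintype.card K = 2 ^ (2 * m + 1)) :
    Gen p ↥(twistedF4 K (2 ^ m)) := by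
  have h7 : 7 ≤ p := by
    rcases hcd.big with h | h
    · exact h
    · exact absurd rfl h
  have hch := Cfsg.Agent.ChevalleyStructure.TwF4.Twisted.charP_two hK
  have hfin := H42.Tw.finite_tw (K := K) (2 ^ m)
  obtain ⟨hs, hna⟩ := Cfsg.Agent.S1072.result hm hK
  have hna' : ¬ IsMulCommutative ↥(Lie.twistedF4 K (2 ^ m)) := hna
  by_cases hcyc : ∀ P : Sylow p ↥(twistedF4 K (2 ^ m)), IsCyclic ↥(P : Subgroup ↥(twistedF4 K (2 ^ m)))
  · refine gen_of_cyclic hFR hcd hna' ?_ hcyc (out_cyclic hm hK) (by omega) (by omega)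
    refine Or.inr (Or.inr (Or.inr (Or.inr (Or.inr (Or.inr (Or.inr (Or.inr (Or.inr (Or.inl ⟨rfl, ?_⟩)))))))))
    exact ⟨K, inferInstance, inferInstance, m, hm, hK, ⟨MulEquiv.refl _⟩⟩
  · push Not at hcyc
    obtain ⟨P, hP⟩ := hcyc
    have hr := cases_rank hm hK (by omega) P.2 hP
    intro E hE hc
    by_cases hI : E ≤ Inn _
    · exact inner_twF4 hm hK (by omega) hE hc hI
    · obtain ⟨x, hx, hx'⟩ := SetLike.not_le_iff_exists.1 hI
      exact outer_twF4 hFR hcd hm hK hr hE hc hx hx'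

end model

/-- **the row `²F₄` of S2187** -/
theorem row_tf4 (hFR : FieldRow.{0}) {G : Type u} [Group G] [Finite G] {p : ℕ} (hcd : Cond 2 p) (h : Iso2F4 G) :
    Gen p G := by
  have hp : Fact p.Prime := ⟨hcd.p_prime⟩
  obtain ⟨K, _, _, m, hm, hK, ⟨e⟩⟩ := h
  exact (gen_tf4 hFR hcd hm hK).congr e.symm

end Cfsg.Agent.H240.GenTwF
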