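import Cfsg.Agent.H240.GenTwF.TwFInner

/-!
# S2187, row `²F₄`: generation (helper240)

* `T_le_sz`, `T_le_plus` : the torus lies in `L₄ M₄` and in `LO M₅`;
* `eq_top_of_T` : the torus and the root elements with parameters `0`, `1` generate.
-/

set_option autoImplicit false
set_option linter.unusedSectionVars false
set_option linter.unusedVariables false

namespace Cfsg.Agent.H240.GenTwF

open Cfsg Subgroup
open Cfsg.Agent.SplitTwo Cfsg.Agent.SplitTwo.ZS Cfsg.Agent.TitsThree.RankTwoZ Cfsg.Agent.SplitTwo.RootSysZ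
open Cfsg.Agent.KFacts.TwF4 Cfsg.Agent.KFacts.TwF4.Arc Cfsg.Agent.KFacts.TwF4.Irr Cfsg.Agent.KFacts.TwF4.Perf
open Cfsg.Agent.KFacts.TwF4.Inv Cfsg.Agent.KFacts.TwF4.AutTau
open Cfsg.Agent.CpAutTwF.Pair Cfsg.Agent.CpAutTwF.Cent
open Cfsg.Agent.H496.TwFRad.Levi Cfsg.Agent.H496.SpTwF.Sq
open Cfsg.Agent.H772.TF Cfsg.Agent.H496.TwEight.HOFacts
open Cfsg.Agent.H42.Deg.F4 (TM TM_le_LO h_TM)
open Cfsg.Agent.CpAutTwF.FieldAut (K2 n1_K2 n2_K2 o_K2 e_K2)

universe u

variable {F : Type*} [Field F] {σ : F →+* F} {G : Type u} [Group G] (S : Full σ G)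

include S in
/-- `x ↦ x σ(x)` is injective on the units -/
theorem inj_norm : Function.Injective fun x : Fˣ => x * Units.map (σ : F →* F) x := by
  have key : ∀ x : Fˣ, x * Units.map (σ : F →* F) x = 1 → x = 1 := by
    intro x hx
    have h1 : Units.map (σ : F →* F) x = x⁻¹ := eq_inv_of_mul_eq_one_right hx
    have h2 : (σ (x : F)) = ((x⁻¹ : Fˣ) : F) := congrArg Units.val h1
    have h3 := S.sq (x : F)
    rw [h2] at h3
    have h4 : σ ((x⁻¹ : Fˣ) : F) = (x : F) := by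
      have h5 : σ ((x⁻¹ : Fˣ) : F) * σ (x : F) = 1 := by
        rw [← map_mul, Units.inv_mul, map_one]
      rw [h2] at h5
      have h6 : σ ((x⁻¹ : Fˣ) : F) * ((x⁻¹ : Fˣ) : F) * (x : F) = (x : F) := by rw [h5, one_mul]
      rwa [mul_assoc, Units.inv_mul, mul_one] at h6
    rw [h4, pow_two] at h3
    have h5 : (x : F) * 1 = x * x := by rw [mul_one]; exact h3
    exact Units.ext (mul_left_cancel₀ x.ne_zero h5).symm
  intro x y hxy
  have h1 : x * y⁻¹ = 1 := by
    apply key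
    rw [map_mul, map_inv]
    have hxy' : x * Units.map (σ : F →* F) x = y * Units.map (σ : F →* F) y := hxy
    calc x * y⁻¹ * (Units.map (σ : F →* F) x * (Units.map (σ : F →* F) y)⁻¹) =
        (x * Units.map (σ : F →* F) x) * (y * Units.map (σ : F →* F) y)⁻¹ := by
          rw [mul_inv, mul_mul_mul_comm]
      _ = 1 := by rw [hxy', mul_inv_cancel]
  exact mul_inv_eq_one.1 h1

variable [Finite F] [Finite G]

theorem T_le_sz : S.T ≤ L4 S ⊔ M4 S := by
  intro t ht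
  obtain ⟨a, ha, b, hb, -, rfl⟩ := T_split S ht
  exact mul_mem (mem_sup_left ha) (mem_sup_right hb)

theorem Tk1_M5 {t : G} (ht : t ∈ S.Tk 1) : t ∈ M5 S := by
  have h1 : S.ck (-2) t ∈ S.Tk (2 * (-2) + 1) := by
    have := S.ck_Tk (-2) ht
    rwa [show (1 : ℤ) + 2 * -2 = 2 * (-2) + 1 by norm_num] at this
  obtain ⟨c, d, hcd⟩ := S.mem_T.1 (S.Tk_le _ h1)
  rw [← hcd] at h1
  have h2 := (mem_Tk_odd S (-2) c d).1 h1
  rw [show ((-2 : ℤ) : ZMod 8) = 6 by decide] at h2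
  have h3 : c / Units.map (σ : F →* F) d * (Units.map (σ : F →* F) c / d) = 1 := h2
  have h4 : c = d := by
    apply inj_norm S
    have h5 : c * Units.map (σ : F →* F) c / (d * Units.map (σ : F →* F) d) = 1 := by
      rw [← h3, div_mul_div_comm, mul_comm d]
    exact div_eq_one.1 h5
  rw [h4] at hcd
  rw [← Cfsg.Agent.H240.BalTwF.map_LO S]
  refine ⟨S.h d d, TM_le_LO S (h_TM S d), ?_⟩
  rw [hcd]
  show S.ck 2 (S.ck (-2) t) = t
  rw [S.ck_apply, S.ck_apply]
  group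

theorem T_le_plus : S.T ≤ S.LO ⊔ M5 S := by
  intro t ht
  obtain ⟨c, d, rfl⟩ := S.mem_T.1 ht
  have hc : CharP F 2 := CharTwo.of_one_ne_zero_of_two_eq_zero one_ne_zero S.two
  have hinj : Function.Injective fun x : Fˣ => x * x := by
    intro x y h
    have h1 : (x : F) * x = y * y := congrArg Units.val h
    have h2 : ((x : F) - y) * ((x : F) - y) = 0 := by
      have : ((x : F) - y) * ((x : F) - y) = x * x + y * y - 2 * (x * y) := by ring
      rw [this, h1, S.two, zero_mul, sub_zero, ← two_mul, S.two, zero_mul]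
    exact Units.ext (sub_eq_zero.1 (mul_self_eq_zero.1 h2))
  obtain ⟨a, ha⟩ := Finite.surjective_of_injective hinj (c * d)
  have ha' : a * a = c * d := ha
  have h1 : S.h c d = S.h a a * S.h (a⁻¹ * c) (a⁻¹ * c)⁻¹ := by
    rw [S.h_mul]
    congr 1
    · group
    · rw [mul_inv_rev, inv_inv, mul_comm c⁻¹, ← mul_assoc, ha', mul_comm c, mul_inv_cancel_right]
  rw [h1]
  refine mul_mem (mem_sup_left (TM_le_LO S (h_TM S a))) (mem_sup_right (Tk1_M5 S ?_))
  exact S.mem_Tk_one.2 ⟨_, rfl⟩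

/-- **the torus and the root elements with parameters `0`, `1` generate** -/
theorem eq_top_of_T {D : Subgroup G} (hT : S.T ≤ D) (hK : K2 S ≤ D) : D = ⊤ := by
  have cj : ∀ {n x y : G}, n ∈ D → x ∈ D → n * x * n⁻¹ = y → y ∈ D := by
    intro n x y hn hx h
    rw [← h]
    exact mul_mem (mul_mem hn hx) (inv_mem hn)
  have hTm : ∀ c d, S.h c d ∈ D := fun c d => hT (S.mem_T.2 ⟨c, d, rfl⟩)
  have e0 : ∀ p, S.e 0 p 0 ∈ D := by
    intro p
    by_cases hp : p = 0
    · rw [hp, S.e_zero]; exact one_mem _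
    · refine cj (hTm (Units.mk0 p hp) 1) (hK (e_K2 S 0 (Or.inr rfl) (Or.inl rfl))) ?_
      rw [S.h_e, chE_zero, Units.val_mk0, mul_one, mul_zero]
  have e1 : ∀ u, S.e 0 0 u ∈ D := by
    intro u
    by_cases hu : u = 0
    · rw [hu, S.e_zero]; exact one_mem _
    · obtain ⟨c, hc⟩ := Finite.surjective_of_injective (inj_norm S) (Units.mk0 u hu)
      have hc' : (c : F) * σ (c : F) = u := congrArg Units.val hc
      refine cj (hTm c 1) (hK (e_K2 S 0 (Or.inl rfl) (Or.inr rfl))) ?_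
      rw [S.h_e, chE_zero, mul_zero, mul_one, hc']
  have x0 : ∀ p u, S.e 0 p u ∈ D := by
    intro p u
    have h := S.e_mul 0 p 0 0 u
    rw [add_zero, zero_add, map_zero, mul_zero, add_zero] at h
    rw [← h]
    exact mul_mem (e0 p) (e1 u)
  have x1 : ∀ t, S.o 0 t ∈ D := by
    intro t
    by_cases ht : t = 0
    · rw [ht, S.o_zero]; exact one_mem _
    · refine cj (hTm (Units.mk0 t ht) 1) (hK (o_K2 S 0 (Or.inr rfl))) ?_
      rw [S.h_o]
      show S.o 0 (((Units.mk0 t ht * 1 : Fˣ) : F) * 1) = S.o 0 t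
      rw [mul_one, mul_one, Units.val_mk0]
  have hn1 : S.n1 ∈ D := hK (n1_K2 S)
  have hn2 : S.n2 ∈ D := hK (n2_K2 S)
  refine eq_top_of S ?_ ?_ ?_ ?_
  · intro x hx
    obtain ⟨p, u, rfl⟩ := (mem_X0 S).1 hx
    exact x0 p u
  · intro x hx
    obtain ⟨t, rfl⟩ := (mem_X1 S).1 hx
    exact x1 t
  · intro x hx
    obtain ⟨p, u, rfl⟩ := (mem_X8 S).1 hx
    refine cj hn2 (x0 p u) ?_
    rw [S.n2_e, sub_zero]
  · intro x hx
    obtain ⟨t, rfl⟩ := (mem_X9 S).1 hx
    refine cj hn1 (x1 t) ?_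
    rw [S.n1_o, sub_zero]

end Cfsg.Agent.H240.GenTwF
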